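import Cfsg.Agent.ZJFail.Basic

/-!
# What a witness gives

A witness gives the section `F(p)` and a subgroup of order `p` with full automiser.
-/

set_option autoImplicit false
set_option maxHeartbeats 800000

namespace Cfsg.Agent.ZJFail

open Subgroup
open Cfsg.Agent
open Cfsg.Agent.QdFree (Affine sylowModel mkT affHom mkT_mul exists_mkT mkT_inj)
open Cfsg.Agent.RootSub.Dickson (upR upR_zero)

universe u

variable {p : ℕ} [hp : Fact p.Prime] {G : Type u} [Group G] [Finite G]

theorem dia_mul (a b : (ZMod p)ˣ) : dia (a * b) = dia a * dia b := by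
  apply Subtype.ext
  rw [Matrix.SpecialLinearGroup.coe_mul]
  show !![((a * b : (ZMod p)ˣ) : ZMod p), 0; 0, (((a * b)⁻¹ : (ZMod p)ˣ) : ZMod p)] =
    !![(a : ZMod p), 0; 0, ((a⁻¹ : (ZMod p)ˣ) : ZMod p)] *
      !![(b : ZMod p), 0; 0, ((b⁻¹ : (ZMod p)ˣ) : ZMod p)]
  rw [Matrix.mul_fin_two, Units.val_mul, mul_inv, Units.val_mul]
  simp only [mul_zero, zero_mul, add_zero, zero_add]

/-- The torus as a homomorphism. -/
def torHom : (ZMod p)ˣ →* Affine (ZMod p) :=
  SemidirectProduct.inr.comp (MonoidHom.mk' dia dia_mul)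

theorem torHom_apply (ω : (ZMod p)ˣ) : torHom ω = tor ω := rfl

theorem dia_mulVec (ω : (ZMod p)ˣ) (x : ZMod p) :
    (dia ω).1.mulVec ![x, 0] = ![(ω : ZMod p) * x, 0] := by
  show Matrix.mulVec !![(ω : ZMod p), 0; 0, ((ω⁻¹ : (ZMod p)ˣ) : ZMod p)] ![x, 0] = _
  generalize ((ω⁻¹ : (ZMod p)ˣ) : ZMod p) = c
  funext i
  fin_cases i <;> simp [Matrix.mulVec, dotProduct, Fin.sum_univ_two]

theorem tor_conj_central (ω : (ZMod p)ˣ) (x : ZMod p) :
    tor ω * mkT x 0 0 * (tor ω)⁻¹ = mkT ((ω : ZMod p) * x) 0 0 := by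
  rw [mul_inv_eq_iff_eq_mul]
  refine SemidirectProduct.ext (Multiplicative.toAdd.injective ?_) ?_
  · simp only [SemidirectProduct.mul_left, tor, SemidirectProduct.left_inr, SemidirectProduct.right_inr,
      map_one, one_mul, mul_one]
    show (dia ω).1.mulVec ![x, 0] = ![(ω : ZMod p) * x, 0]
    exact dia_mulVec ω x
  · show dia ω * upR 0 = upR 0 * dia ω
    rw [upR_zero, mul_one, one_mul]

/-- The upper triangular part of the affine group is generated by the model and the torus. -/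
theorem fOver_le {ω : (ZMod p)ˣ} (hω : orderOf ω = p - 1) {B : Subgroup (Affine (ZMod p))}
    (hB : sylowModel p ≤ B) (hτ : tor ω ∈ B) : Cfsg.fOver (ZMod p) ≤ B.map affHom := by
  have hgen : ∀ a : (ZMod p)ˣ, a ∈ zpowers ω := fun a => by
    have : zpowers ω = ⊤ := eq_top_of_card_eq _ (by
      rw [Nat.card_zpowers, hω, Nat.card_eq_fintype_card, ZMod.card_units])
    exact this ▸ mem_top a
  refine (closure_le _).mpr fun M hM => ?_
  obtain ⟨h10, h20, h21, h22⟩ := hM
  obtain ⟨g, rfl⟩ := QdFree.mem_range_affHom.mpr ⟨h20, h21, h22⟩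
  have hg10 : g.right 1 0 = 0 := h10
  have hd : g.right 0 0 * g.right 1 1 = 1 := by
    have := RootSub.Dickson.det2 g.right
    rwa [hg10, mul_zero, sub_zero] at this
  set a : (ZMod p)ˣ := Units.mkOfMulEqOne _ _ hd
  have ha : ((a : (ZMod p)ˣ) : ZMod p) = g.right 0 0 := rfl
  have hai : ((a⁻¹ : (ZMod p)ˣ) : ZMod p) = g.right 1 1 := rfl
  refine mem_map_of_mem _ ?_
  obtain ⟨i, hi⟩ := hgen a
  have hta : tor a ∈ B := by
    rw [← torHom_apply, ← hi, map_zpow, torHom_apply]
    exact B.zpow_mem hτ i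
  have hgd : g * (tor a)⁻¹ ∈ sylowModel p := by
    refine ⟨g.right 0 1 * g.right 0 0, ?_⟩
    show upR _ = (g * (tor a)⁻¹).right
    rw [SemidirectProduct.mul_right, SemidirectProduct.inv_right, eq_mul_inv_iff_mul_eq]
    show upR (g.right 0 1 * g.right 0 0) * dia a = g.right
    apply Subtype.ext
    rw [Matrix.SpecialLinearGroup.coe_mul]
    show !![(1 : ZMod p), g.right 0 1 * g.right 0 0; 0, 1] *
      !![(a : ZMod p), 0; 0, ((a⁻¹ : (ZMod p)ˣ) : ZMod p)] = g.right.1
    rw [Matrix.mul_fin_two, ha, hai]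
    ext i j
    fin_cases i <;> fin_cases j <;> simp [hg10, mul_assoc, hd]
  have := mul_mem (hB hgd) hta
  rwa [inv_mul_cancel_right] at this

theorem le_fOver (g : Affine (ZMod p)) (hg : g.right 1 0 = 0) : affHom g ∈ Cfsg.fOver (ZMod p) :=
  subset_closure ⟨hg, rfl, rfl, rfl⟩

/-- The data with a `p'`-element. -/
theorem exists_coprime_data {T Y : Subgroup G} {h : G} (hpre : Pre p T h Y) :
    ∃ h' ∈ zpowers h, (orderOf h').Coprime p ∧ h' ∈ normalizer (T : Set G) ∧
      Nonempty (Data (p := p) G T h' Y) := by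
  obtain ⟨hn, ⟨d⟩⟩ := hpre
  obtain ⟨s, m, hm, hord⟩ := Nat.exists_eq_pow_mul_and_not_dvd (orderOf_pos h).ne' p hp.out.ne_one
  have hpow : ∀ j : ℕ, ∀ x y : T, (y : G) = h ^ j * x * (h ^ j)⁻¹ →
      d.f y = tor d.w ^ j * d.f x * (tor d.w ^ j)⁻¹ := by
    intro j
    induction j with
    | zero =>
      intro x y hxy
      rw [pow_zero, one_mul, inv_one, mul_one] at hxy
      rw [pow_zero, one_mul, inv_one, mul_one, Subtype.ext hxy]
    | succ j ih =>
      intro x y hxy
      have hz : h * x * h⁻¹ ∈ T := (mem_normalizer_iff.mp hn x).mp x.2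
      have h1 := ih ⟨_, hz⟩ y (by rw [hxy, pow_succ]; simp [mul_assoc])
      rw [h1, d.conj_eq x ⟨_, hz⟩ rfl, pow_succ]
      simp [mul_assoc]
  have hw : d.w ^ p ^ s = d.w := by
    have h1 : p ^ s ≡ 1 [MOD p - 1] := by
      have h2 : p ≡ 1 [MOD p - 1] := ((Nat.modEq_iff_dvd' hp.out.one_lt.le).mpr dvd_rfl).symm
      simpa using h2.pow s
    rw [← d.order_w, ← pow_eq_pow_iff_modEq, pow_one] at h1
    exact h1
  refine ⟨h ^ p ^ s, pow_mem (mem_zpowers h) _, ?_, pow_mem hn _, ⟨⟨d.f, d.range_eq, d.w, d.order_w,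
    fun x y hxy => ?_, d.pt, d.pt_mem, d.c, d.c_ne, d.f_pt⟩⟩⟩
  · rw [orderOf_pow_of_dvd (pow_ne_zero _ hp.out.ne_zero) ⟨m, hord⟩, hord,
      Nat.mul_div_cancel_left _ (pow_pos hp.out.pos s)]
    exact (hp.out.coprime_iff_not_dvd.mpr hm).symm
  · rw [hpow _ x y hxy, ← torHom_apply, ← map_pow, hw]

/-- The consequences of a witness. -/
theorem consequences {S Y : Subgroup G} (hS : IsPGroup p S) (hYc : IsMulCommutative Y)
    (hSY : S ≤ normalizer (Y : Set G)) (hW : Wit p S Y) :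
    Cfsg.Involves ↥(Cfsg.fOver (ZMod p)) ↥(normalizer (Y : Set G)) ∧
      ∃ C : Subgroup G, C ≤ Y ∧ Nat.card C = p ∧
        (normalizer (Y : Set G) ⊓ centralizer (C : Set G)).relIndex
          (normalizer (Y : Set G) ⊓ normalizer (C : Set G)) = p - 1 := by
  obtain ⟨T, h₀, hTS, hh₀, hpre⟩ := hW
  obtain ⟨h, hh0, hcop, hn, ⟨d⟩⟩ := exists_coprime_data hpre
  have hTp : IsPGroup p T := hS.to_le hTS
  set HY := normalizer (Y : Set G)
  have hhY : h ∈ HY := zpowers_le.mpr hh₀ hh0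
  have hcz : ∀ i : ℤ, ∀ x : T, h ^ i * x * (h ^ i)⁻¹ ∈ T := fun i x =>
    (mem_normalizer_iff.mp ((normalizer (T : Set G)).zpow_mem hn i) x).mp x.2
  -- the graph
  let Γ : Subgroup (G × Affine (ZMod p)) :=
    closure ((Set.range fun x : T => ((x : G), d.f x)) ∪ {(h, tor d.w)})
  have hnat : ∀ j : ℕ, ∀ x y : T, (y : G) = h ^ j * x * (h ^ j)⁻¹ →
      d.f y = tor d.w ^ j * d.f x * (tor d.w ^ j)⁻¹ := by
    intro j
    induction j with
    | zero =>
      intro x y hxy
      rw [pow_zero, one_mul, inv_one, mul_one] at hxy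
      rw [pow_zero, one_mul, inv_one, mul_one, Subtype.ext hxy]
    | succ j ih =>
      intro x y hxy
      have hz : h * x * h⁻¹ ∈ T := (mem_normalizer_iff.mp hn x).mp x.2
      have h1 := ih ⟨_, hz⟩ y (by rw [hxy, pow_succ]; simp [mul_assoc])
      rw [h1, d.conj_eq x ⟨_, hz⟩ rfl, pow_succ]
      simp [mul_assoc]
  have hpt : mkT (1 : ZMod p) 0 0 ∈ d.f.range := d.range_eq ▸ QdFree.mkT_mem _ _ _
  have hordw : d.w ^ orderOf h = 1 := by
    obtain ⟨x, hx⟩ := hpt
    have h1 := hnat (orderOf h) x x (by rw [pow_orderOf_eq_one]; simp)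
    rw [hx, ← torHom_apply, ← map_pow, torHom_apply, tor_conj_central] at h1
    exact Units.ext (by simpa using (mkT_inj h1).1.symm)
  have hm0 : 0 < orderOf h := orderOf_pos h
  let NΓ : Submonoid (G × Affine (ZMod p)) :=
    { carrier := {z | ∃ (x : T) (j : ℕ), z = ((x : G) * h ^ j, d.f x * tor d.w ^ j)}
      one_mem' := ⟨1, 0, by simp [Prod.one_eq_mk]⟩
      mul_mem' := by
        rintro _ _ ⟨x, i, rfl⟩ ⟨y, j, rfl⟩
        have hy : h ^ i * y * (h ^ i)⁻¹ ∈ T := by simpa using hcz (i : ℤ) y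
        refine ⟨x * ⟨_, hy⟩, i + j, ?_⟩
        rw [map_mul, hnat i y ⟨_, hy⟩ rfl, Subgroup.coe_mul, pow_add, pow_add]
        simp [mul_assoc] }
  have hmemΓ : ∀ z ∈ Γ, z ∈ NΓ := by
    intro z hz
    induction hz using Subgroup.closure_induction with
    | mem z hz =>
      rcases hz with ⟨x, rfl⟩ | hz
      · exact ⟨x, 0, by simp⟩
      · exact ⟨1, 1, by simpa using hz⟩
    | one => exact one_mem _
    | mul x y _ _ hx hy => exact mul_mem hx hy
    | inv x _ hx =>
      have : IsOfFinOrder x := isOfFinOrder_of_finite x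
      rw [inv_eq_of_mul_eq_one_right (show x * x ^ (orderOf x - 1) = 1 by
        rw [← pow_succ', Nat.sub_add_cancel (orderOf_pos x), pow_orderOf_eq_one])]
      exact pow_mem hx _
  have hinj : ∀ z ∈ Γ, z.1 = 1 → z.2 = 1 := by
    intro z hz hz1
    obtain ⟨x, j, rfl⟩ := hmemΓ z hz
    have hxj : (x : G) * h ^ j = 1 := hz1
    obtain ⟨k, hk⟩ := IsPGroup.iff_orderOf.mp hTp x
    rw [← Subgroup.orderOf_coe] at hk
    have hxe : (x : G) = (h ^ j)⁻¹ := eq_inv_of_mul_eq_one_left hxj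
    have hd1 : orderOf (x : G) ∣ orderOf h := by
      rw [hxe, orderOf_inv]; exact orderOf_pow_dvd j
    have hx1 : (x : G) = 1 := orderOf_eq_one_iff.mp
      (Nat.eq_one_of_dvd_coprimes (hcop.pow_right k) hd1 hk.dvd)
    rw [hx1, one_mul] at hxj
    obtain ⟨r, hr⟩ := orderOf_dvd_of_pow_eq_one hxj
    show d.f x * tor d.w ^ j = 1
    rw [show x = 1 from Subtype.ext hx1, map_one, one_mul, hr, ← torHom_apply, ← map_pow, pow_mul, hordw,
      one_pow, map_one]
  refine ⟨?_, ?_⟩
  · -- the section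
    let fst : Γ →* G := (MonoidHom.fst _ _).comp Γ.subtype
    have hfst : Function.Injective fst := (injective_iff_map_eq_one _).mpr fun z hz =>
      Subtype.ext (Prod.ext hz (hinj z z.2 hz))
    have hle : fst.range ≤ HY := by
      rintro _ ⟨z, rfl⟩
      obtain ⟨x, j, he⟩ := hmemΓ z z.2
      show (z : G × Affine (ZMod p)).1 ∈ HY
      rw [he]
      exact mul_mem (hSY (hTS x.2)) (pow_mem hhY j)
    let θ : Γ →* Matrix.SpecialLinearGroup (Fin 3) (ZMod p) :=
      (affHom.comp (MonoidHom.snd _ _)).comp Γ.subtype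
    have hθ : θ.range = Cfsg.fOver (ZMod p) := by
      refine le_antisymm ?_ ?_
      · rintro _ ⟨z, rfl⟩
        obtain ⟨x, j, he⟩ := hmemΓ z z.2
        show affHom (z : G × Affine (ZMod p)).2 ∈ _
        rw [he]
        have hx : d.f x ∈ sylowModel p := d.range_eq ▸ ⟨x, rfl⟩
        obtain ⟨r, hr⟩ := hx
        have hr' : (d.f x).right = upR r := hr.symm
        rw [map_mul, map_pow]
        refine mul_mem (le_fOver _ ?_) (pow_mem (le_fOver _ ?_) j)
        · rw [hr']; rfl
        · rfl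
      · refine (fOver_le d.order_w (B := Γ.map (MonoidHom.snd _ _)) ?_ ?_).trans ?_
        · rw [← d.range_eq]
          rintro _ ⟨x, rfl⟩
          exact ⟨((x : G), d.f x), subset_closure (Or.inl ⟨x, rfl⟩), rfl⟩
        · exact ⟨(h, tor d.w), subset_closure (Or.inr rfl), rfl⟩
        · rintro _ ⟨_, ⟨z, hz, rfl⟩, rfl⟩
          exact ⟨⟨z, hz⟩, rfl⟩
    let emb : Γ →* HY := fst.codRestrict HY fun z => hle ⟨z, rfl⟩
    have hemb : Function.Injective emb := fun a b hab => hfst (congrArg Subtype.val hab)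
    refine QdFree.involves_mk emb.range
      (((MulEquiv.subgroupCongr hθ).toMonoidHom.comp θ.rangeRestrict).comp
        (MonoidHom.ofInjective hemb).symm.toMonoidHom) ?_
    exact ((MulEquiv.subgroupCongr hθ).surjective.comp θ.rangeRestrict_surjective).comp
      (MonoidHom.ofInjective hemb).symm.surjective
  -- the subgroup of order `p`
  set Z := Y ⊓ T
  have hZc : ∀ a b : Z, a * b = b * a := fun a b => Subtype.ext
    (Fusion.commute_of_isMulCommutative hYc a.2.1 b.2.1).eq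
  let : CommGroup Z := { (inferInstance : Group Z) with mul_comm := hZc }
  have hhZ : h ∈ normalizer (Z : Set G) := le_normalizer_inf hhY hn
  let α : MulAut Z := Z.normalizerMonoidHom ⟨h, hhZ⟩
  have hαn : ∀ (j : ℕ) (z : Z), (((α ^ j) z : Z) : G) = h ^ j * z * (h ^ j)⁻¹ := by
    intro j
    induction j with
    | zero => intro z; simp
    | succ j ih =>
      intro z
      rw [pow_succ, MulAut.mul_apply, ih]
      show h ^ j * (h * z * h⁻¹) * (h ^ j)⁻¹ = h ^ (j + 1) * z * (h ^ (j + 1))⁻¹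
      rw [pow_succ]; group
  let F : Z →* Affine (ZMod p) := d.f.comp (Subgroup.inclusion inf_le_right)
  set v : Z := ⟨d.pt, d.pt_mem, d.pt.2⟩
  have hFv : ∀ j : ℕ, F ((α ^ j) v) = mkT (((d.w : ZMod p)) ^ j * d.c) 0 0 := by
    intro j
    have := hnat j d.pt ⟨((α ^ j) v : Z), ((α ^ j) v).2.2⟩ (hαn j v)
    show d.f _ = _
    rw [show Subgroup.inclusion inf_le_right ((α ^ j) v) = ⟨((α ^ j) v : Z), ((α ^ j) v).2.2⟩ from rfl,
      this, d.f_pt, ← torHom_apply, ← map_pow, torHom_apply, tor_conj_central, Units.val_pow_eq_pow_val]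
  obtain ⟨N, hN⟩ := IsPGroup.iff_card.mp (hTp.to_le (inf_le_right : Z ≤ T))
  set k : ℕ := (d.w : ZMod p).val
  have hkw : (k : ZMod p) = d.w := ZMod.natCast_zmod_val _
  set kh := k ^ p ^ N with hkhdef
  have hkh : (kh : ZMod p) = d.w := by
    rw [hkhdef, Nat.cast_pow, hkw]
    exact ZMod.pow_card_pow _
  set m := orderOf h with hmdef
  have hkcop : k.Coprime p := by
    rw [Nat.coprime_comm, hp.out.coprime_iff_not_dvd]
    intro hdvd
    have h0 := (ZMod.natCast_eq_zero_iff k p).mpr hdvd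
    rw [hkw] at h0
    exact d.w.ne_zero h0
  have hkhm : ∀ z : Z, z ^ kh ^ m = z := by
    intro z
    have h1 : k ^ ((p ^ N) * (p - 1)) ≡ 1 [MOD p ^ (N + 1)] := by
      have := Nat.ModEq.pow_totient (hkcop.pow_right (N + 1))
      rwa [Nat.totient_prime_pow_succ hp.out] at this
    obtain ⟨r, hr⟩ := (d.order_w ▸ orderOf_dvd_of_pow_eq_one hordw : p - 1 ∣ m)
    have h2 : kh ^ m ≡ 1 [MOD p ^ N] := by
      rw [hkhdef, ← pow_mul, hr, ← mul_assoc, pow_mul]
      simpa using (h1.of_dvd (pow_dvd_pow p (Nat.le_succ N))).pow r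
    have h3 : orderOf z ∣ p ^ N := hN ▸ orderOf_dvd_natCard z
    conv_rhs => rw [← pow_one z]
    exact pow_eq_pow_iff_modEq.mpr (h2.of_dvd h3)
  set L : Z := ∏ i ∈ Finset.range m, ((α ^ i) v) ^ kh ^ (m - i) with hLdef
  have hαm : (α ^ m) v = v := Subtype.ext (by rw [hαn, pow_orderOf_eq_one]; simp)
  have hαL : α L = L ^ kh := by
    set P : ℕ → Z := fun i => ((α ^ i) v) ^ kh ^ (m - i + 1) with hP
    have h1 : L ^ kh = ∏ i ∈ Finset.range m, P i := by
      rw [hLdef, ← Finset.prod_pow]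
      exact Finset.prod_congr rfl fun i _ => by rw [hP, ← pow_mul, ← pow_succ]
    have h2 : α L = ∏ i ∈ Finset.range m, P (i + 1) := by
      rw [hLdef, map_prod]
      refine Finset.prod_congr rfl fun i hi => ?_
      rw [Finset.mem_range] at hi
      simp only [hP]
      rw [map_pow, ← MulAut.mul_apply, ← pow_succ', show m - (i + 1) + 1 = m - i by omega]
    have h3 := Finset.prod_range_succ P m
    rw [Finset.prod_range_succ' P m, ← h1, ← h2] at h3
    have h4 : P 0 = P m := by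
      simp only [hP, pow_zero, Nat.sub_zero, MulAut.one_apply, hαm, Nat.sub_self, zero_add, pow_one]
      rw [pow_succ, pow_mul, hkhm]
    rw [h4] at h3
    exact mul_right_cancel h3
  have hFL : F L ≠ 1 := by
    have key : ∀ j ≤ m, F (∏ i ∈ Finset.range j, ((α ^ i) v) ^ kh ^ (m - i)) =
        mkT ((j : ZMod p) * d.c) 0 0 := by
      intro j hj
      induction j with
      | zero =>
        simp only [Finset.range_zero, Finset.prod_empty, map_one, Nat.cast_zero, zero_mul]
        exact SemidirectProduct.ext (Multiplicative.toAdd.injective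
          (funext fun i => by fin_cases i <;> rfl)) upR_zero.symm
      | succ j ih =>
        have hmk : ∀ (n : ℕ) (x : ZMod p), mkT x 0 0 ^ n = mkT ((n : ZMod p) * x) 0 0 := by
          intro n x
          induction n with
          | zero =>
            rw [pow_zero, Nat.cast_zero, zero_mul]
            exact SemidirectProduct.ext (Multiplicative.toAdd.injective
              (funext fun i => by fin_cases i <;> rfl)) upR_zero.symm
          | succ n ihn => rw [pow_succ, ihn, mkT_mul]; simp [add_mul]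
        rw [Finset.prod_range_succ, map_mul, ih (by omega), map_pow, hFv, hmk, mkT_mul, Nat.cast_pow,
          hkh, ← mul_assoc, ← pow_add, Nat.sub_add_cancel (by omega : j ≤ m), ← Units.val_pow_eq_pow_val,
          hordw]
        simp [add_mul]
    rw [key m le_rfl]
    intro he
    have h1 : (m : ZMod p) * d.c = 0 :=
      congrFun (congrArg (fun g : Affine (ZMod p) => g.left.toAdd) he) 0
    rcases mul_eq_zero.mp h1 with h1 | h1
    · exact hp.out.coprime_iff_not_dvd.mp hcop.symm ((ZMod.natCast_eq_zero_iff m p).mp h1)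
    · exact d.c_ne h1
  have hL1 : L ≠ 1 := fun he => hFL (by rw [he, map_one])
  obtain ⟨s, hs⟩ := IsPGroup.iff_orderOf.mp (hTp.to_le (inf_le_right : Z ≤ T)) L
  have hs0 : s ≠ 0 := fun he => hL1 (orderOf_eq_one_iff.mp (by rw [hs, he, pow_zero]))
  set e : Z := L ^ p ^ (s - 1)
  have heo : orderOf e = p := by
    rw [orderOf_pow_of_dvd (pow_ne_zero _ hp.out.ne_zero) (hs ▸ pow_dvd_pow p (Nat.sub_le s 1)), hs,
      Nat.pow_div (Nat.sub_le s 1) hp.out.pos, show s - (s - 1) = 1 by omega, pow_one]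
  have hαe : α e = e ^ k := by
    rw [map_pow, hαL, ← pow_mul, mul_comm, pow_mul]
    refine pow_eq_pow_iff_modEq.mpr ?_
    rw [heo, ← ZMod.natCast_eq_natCast_iff, hkh, hkw]
  set eg : G := (e : G)
  have hego : orderOf eg = p := by rw [Subgroup.orderOf_coe, heo]
  have hhe : h * eg * h⁻¹ = eg ^ k := congrArg Subtype.val hαe
  refine ⟨zpowers eg, zpowers_le.mpr e.2.1, by rw [Nat.card_zpowers, hego], ?_⟩
  set C := zpowers eg
  have hC : Nat.card C = p := by rw [Nat.card_zpowers, hego]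
  have hpowk : ∀ j : ℕ, h ^ j * eg * (h ^ j)⁻¹ = eg ^ k ^ j := by
    intro j
    induction j with
    | zero => simp
    | succ j ih =>
      rw [show h ^ (j + 1) * eg * (h ^ (j + 1))⁻¹ = h * (h ^ j * eg * (h ^ j)⁻¹) * h⁻¹ by
        rw [pow_succ']; group, ih, ← conj_pow, hhe, ← pow_mul, pow_succ']
  have hhC : h ∈ normalizer (C : Set G) := QdFree.ZJControl.mem_normalizer_of_conj fun x hx => by
    obtain ⟨i, rfl⟩ := hx
    show h * eg ^ i * h⁻¹ ∈ C
    rw [← conj_zpow, hhe]
    exact zpow_mem (pow_mem (mem_zpowers eg) k) i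
  set N₁ := HY ⊓ normalizer (C : Set G)
  let ξ : N₁ →* MulAut C := C.normalizerMonoidHom.comp (Subgroup.inclusion inf_le_right)
  have hker : (HY ⊓ centralizer (C : Set G)).subgroupOf N₁ = ξ.ker := by
    ext x
    rw [mem_subgroupOf, MonoidHom.mem_ker, MulEquiv.ext_iff]
    constructor
    · intro hx c
      refine Subtype.ext ?_
      show (x : G) * c * (x : G)⁻¹ = c
      rw [← mem_centralizer_iff.mp hx.2 c c.2, mul_inv_cancel_right]
    · intro hx
      refine ⟨x.2.1, mem_centralizer_iff.mpr fun c hc => ?_⟩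
      have h1 : (x : G) * c * (x : G)⁻¹ = c := congrArg Subtype.val (hx ⟨c, hc⟩)
      exact (mul_inv_eq_iff_eq_mul.mp h1).symm
  have hNh : ∀ j : ℕ, h ^ j ∈ N₁ := fun j => ⟨pow_mem hhY j, pow_mem hhC j⟩
  have hcyc : IsCyclic C := by infer_instance
  have hAut : Nat.card (MulAut C) = p - 1 := by
    rw [IsCyclic.card_mulAut, hC, Nat.totient_prime hp.out]
  have hinj' : Function.Injective fun j : Fin (p - 1) => ξ ⟨h ^ (j : ℕ), hNh j⟩ := by
    intro i j hij
    have h1 := congrArg (fun φ : MulAut C => ((φ ⟨eg, mem_zpowers eg⟩ : C) : G)) hij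
    change h ^ (i : ℕ) * eg * (h ^ (i : ℕ))⁻¹ = h ^ (j : ℕ) * eg * (h ^ (j : ℕ))⁻¹ at h1
    rw [hpowk, hpowk, pow_eq_pow_iff_modEq, hego, ← ZMod.natCast_eq_natCast_iff, Nat.cast_pow,
      Nat.cast_pow, hkw, ← Units.val_pow_eq_pow_val, ← Units.val_pow_eq_pow_val] at h1
    exact Fin.ext (pow_injOn_Iio_orderOf (by rw [Set.mem_Iio, d.order_w]; exact i.2)
      (by rw [Set.mem_Iio, d.order_w]; exact j.2) (Units.ext h1))
  have : Finite (MulAut C) := Finite.of_injective _ DFunLike.coe_injective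
  show (HY ⊓ centralizer (C : Set G)).relIndex N₁ = p - 1
  rw [relIndex, hker, index_ker]
  refine le_antisymm (hAut ▸ Nat.card_le_card_of_injective _ ξ.range.subtype_injective) ?_
  have h1 := Nat.card_le_card_of_injective
    (fun j : Fin (p - 1) => (⟨ξ ⟨h ^ (j : ℕ), hNh j⟩, _, rfl⟩ : ξ.range))
    fun i j hij => hinj' (congrArg Subtype.val hij)
  rwa [Nat.card_fin] at h1

end Cfsg.Agent.ZJFail
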