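import Cfsg.Agent.ZJFail.Module

/-!
# The constrained case

`C_S(O_p(G)) ≤ O_p(G)`: either `N(Y)` controls fusion or there is a witness.
-/

set_option autoImplicit false
set_option maxHeartbeats 1600000

namespace Cfsg.Agent.ZJFail

open Subgroup
open Cfsg.Agent
open Cfsg.Agent.QdFree.ZJControl (Acts mem_normalizer_of_conj centralizer_normal commute_of_stable)
open Cfsg.Agent.Fusion (AbMax)

universe u

variable {p : ℕ} [hp : Fact p.Prime] {G : Type u} [Group G] [Finite G]

/-- Frattini: if `N ≤ M₀`, `S ⊓ N` is not normal and proper overgroups of `S` lie in `M₀`, then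
`M₀ = G`. -/
theorem sylow_inf_normal (S : Sylow p G) {N M₀ : Subgroup G} [N.Normal] (hM₀ : M₀ ≠ ⊤)
    (uniq : ∀ M : Subgroup G, M ≠ ⊤ → (S : Subgroup G) ≤ M → M ≤ M₀) (hNM : N ≤ M₀) :
    ((S : Subgroup G) ⊓ N).Normal := by
  set E := (S : Subgroup G) ⊓ N
  by_contra hEn
  have hSE : (S : Subgroup G) ≤ normalizer (E : Set G) := fun s hs => mem_normalizer_of_conj
    fun x hx => ⟨(S : Subgroup G).mul_mem ((S : Subgroup G).mul_mem hs hx.1) ((S : Subgroup G).inv_mem hs), (inferInstance : N.Normal).conj_mem x hx.2 s⟩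
  obtain ⟨R, hR⟩ := Control.SylIn.exists_sylow (G := N) (T := E.subgroupOf N)
    ⟨le_top, (S.2.to_inf_left : IsPGroup p E).comap_subtype, by
      rw [relIndex_top_right]
      exact ((Control.sylIn_top S).inf_normal (N := N) le_top
        (fun g _ => normalizer_eq_top N ▸ mem_top g)).not_dvd⟩
  have hFr := Sylow.normalizer_sup_eq_top R
  rw [hR, map_subgroupOf_eq_of_le inf_le_right] at hFr
  refine hM₀ (top_le_iff.mp (hFr.ge.trans (sup_le (uniq _ ?_ hSE) hNM)))
  exact fun h => hEn (normalizer_eq_top_iff.mp h)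

/-- The constrained case. -/
theorem acts_of_centric (IH : Smaller p G) (h2 : p ≠ 2) (S : Sylow p G) {Y : Subgroup G}
    (hY : Y ≤ Fusion.zInter 0 (S : Subgroup G))
    (hN : normalizer (Fusion.zInter 0 (S : Subgroup G) : Set G) ≤ normalizer (Y : Set G))
    (hW : ¬ Wit p (S : Subgroup G) Y) (hnt : normalizer (Y : Set G) ≠ ⊤)
    (hcent : (S : Subgroup G) ⊓ centralizer (Cfsg.pCore p G : Set G) ≤ Cfsg.pCore p G)
    {A : Set G} (hA : A ⊆ (S : Subgroup G)) {g : G}
    (hg : ∀ a ∈ A, g * a * g⁻¹ ∈ (S : Subgroup G)) : Acts (normalizer (Y : Set G)) A g := by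
  set NY := normalizer (Y : Set G) with hNY
  have hSN : (S : Subgroup G) ≤ NY :=
    (le_normalizer.trans (sylow_le_normalizer_zInter _)).trans hN
  have hYS : Y ≤ (S : Subgroup G) := hY.trans (Fusion.zInter_le 0 _)
  set Q := Cfsg.pCore p G with hQdef
  have hQS : Q ≤ (S : Subgroup G) := Core.pCore_le_sylow S
  set C := centralizer (Q : Set G) with hC
  have hCn : C.Normal := centralizer_normal Q
  set O := Cfsg.pPrimeCore p G
  have hCO : C ≤ NY ⊔ O := by
    obtain ⟨T, hT⟩ := Control.SylIn.exists_sylow (G := C)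
      (T := ((S : Subgroup G) ⊓ C).subgroupOf C) (p := p)
      ⟨le_top, S.2.to_inf_left.comap_subtype, by
        rw [relIndex_top_right]
        exact ((Control.sylIn_top S).inf_normal (N := C) le_top
          (fun g _ => normalizer_eq_top C ▸ mem_top g)).not_dvd⟩
    have hburn : Cfsg.HasNormalPComplement p C :=
      Fusion.hasNormalPComplement_of_normalizer_le_centralizer T fun x _ => by
        rw [mem_centralizer_iff]
        intro t ht
        have ht' : t ∈ (T : Subgroup C) := ht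
        rw [hT] at ht'
        exact Subtype.ext (mem_centralizer_iff.mp x.2 _ (hcent ht'))
    have hle : (Cfsg.pResidual p C).map C.subtype ≤ O := by
      have := Fusion.pResidual_characteristic (p := p) (G := C)
      refine Core.le_pPrimeCore ?_
      rw [card_map_of_injective C.subtype_injective]
      exact Fusion.coprime_card_pResidual_of_hasNormalPComplement hburn
    intro x hx
    obtain ⟨t, ht, o, ho, hto⟩ :=
      mem_sup_of_normal_right.mp ((Fusion.sylow_sup_pResidual T).ge (mem_top (⟨x, hx⟩ : C)))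
    rw [show x = (t : G) * (o : G) from congrArg Subtype.val hto.symm]
    rw [hT] at ht
    exact mul_mem (mem_sup_left (hSN ht.1)) (mem_sup_right (hle ⟨o, ho, rfl⟩))
  set M₀ := NY ⊔ C with hM₀def
  by_cases hM₀ : M₀ = ⊤
  · have htop : O ⊔ NY = ⊤ := top_le_iff.mp (hM₀.ge.trans
      (sup_le le_sup_right (hCO.trans (sup_comm _ _).le)))
    obtain ⟨y, hy, hye⟩ := Fusion.exists_mem_conj_eq (O := O) (N := NY)
      Core.coprime_card_pPrimeCore hSN S.2 hA (x := g) (by rw [sup_comm] at htop; first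
        | (rw [htop]; exact mem_top g)
        | (rw [sup_comm, htop]; exact mem_top g)) hg
    exact ⟨y, hy, fun a ha => (hye a ha).symm⟩
  exfalso
  have hSM₀ : (S : Subgroup G) ≤ M₀ := hSN.trans le_sup_left
  have uniq : ∀ M : Subgroup G, M ≠ ⊤ → (S : Subgroup G) ≤ M → M ≤ M₀ := by
    intro M hM hSM x hx
    obtain ⟨y, hy, hye⟩ := acts_sub IH S hY hN hW hM hSM (B := (Q : Set G))
      (SetLike.coe_subset_coe.mpr hQS) hx
      fun b hb => hQS ((inferInstance : Q.Normal).conj_mem b hb x)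
    have h1 : y⁻¹ * x ∈ C := by
      rw [hC, mem_centralizer_iff]
      intro q hq
      calc q * (y⁻¹ * x) = y⁻¹ * (y * q * y⁻¹) * x := by group
        _ = y⁻¹ * (x * q * x⁻¹) * x := by rw [hye q hq]
        _ = y⁻¹ * x * q := by group
    have := mul_mem (mem_sup_left hy : y ∈ M₀) (mem_sup_right h1 : y⁻¹ * x ∈ M₀)
    rwa [mul_inv_cancel_left] at this
  -- the largest normal subgroup in `Y`
  set X := Y.normalCore with hXdef
  have hXn : X.Normal := normalCore_normal Y
  have hXY : X ≤ Y := normalCore_le Y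
  have hXQ : X ≤ Q := Core.le_pCore (S.2.to_le (hXY.trans hYS))
  set π := QuotientGroup.mk' X
  have hπ : Function.Surjective π := QuotientGroup.mk'_surjective X
  have hker : ∀ {x y : G}, π x = π y → x⁻¹ * y ∈ X := fun h => QuotientGroup.eq.mp h
  have hcomap : ∀ {U : Subgroup G}, X ≤ U → ∀ {x : G}, π x ∈ U.map π → x ∈ U := by
    intro U hU x hx
    obtain ⟨y, hy, hyx⟩ := hx
    have := mul_mem hy (hU (hker hyx))
    rwa [mul_inv_cancel_left] at this
  -- `y`
  obtain ⟨y₀, hy₀, hy₀S, hy₀p, hy₀1⟩ : ∃ y ∈ Y, (∀ s ∈ (S : Subgroup G), Commute (π s) (π y)) ∧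
      π y ^ p = 1 ∧ π y ≠ 1 := by
    have hle : Y.map π ≤ (S : Subgroup G).map π := map_mono hYS
    have hne : Y.map π ≠ ⊥ := by
      intro h
      have hYX : Y ≤ X := fun x hx => (QuotientGroup.eq_one_iff x).mp (mem_bot.mp (by
        have h' := mem_map_of_mem π hx
        rw [h] at h'
        exact h'))
      exact hnt (normalizer_eq_top_iff.mpr ⟨fun z hz x => hXY (hXn.conj_mem z (hYX hz) x)⟩)
    have hn : ((Y.map π).subgroupOf ((S : Subgroup G).map π)).Normal :=
      (normal_subgroupOf_iff_le_normalizer hle).mpr ((map_mono hSN).trans (le_normalizer_map π))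
    have hSp : IsPGroup p ((S : Subgroup G).map π) := S.2.map π
    have := hSp.isNilpotent
    set N := (Y.map π).subgroupOf ((S : Subgroup G).map π) ⊓ center _
    have hN1 : N ≠ ⊥ := Core.inf_center_ne_bot (fun h => hne (by
      rw [Subgroup.subgroupOf_eq_bot] at h
      rw [eq_bot_iff, ← h.eq_bot]
      exact le_inf le_rfl hle))
    obtain ⟨k, hk⟩ := IsPGroup.iff_card.mp (hSp.to_subgroup N)
    have hk0 : k ≠ 0 := fun h => hN1 (eq_bot_of_card_eq _ (by rw [hk, h, pow_zero]))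
    obtain ⟨z, hz⟩ := exists_prime_orderOf_dvd_card' (G := N) p (hk ▸ dvd_pow_self p hk0)
    obtain ⟨y, hy, hyz⟩ := (z.2.1 : ((z : (S : Subgroup G).map π) : G ⧸ X) ∈ Y.map π)
    refine ⟨y, hy, fun s hs => ?_, ?_, fun h => ?_⟩
    · rw [hyz]
      exact (congrArg Subtype.val (mem_center_iff.mp z.2.2 ⟨π s, mem_map_of_mem π hs⟩) : _)
    · rw [hyz]
      have h1 : z ^ p = 1 := by
        have h1' := pow_orderOf_eq_one z
        rwa [hz] at h1'
      exact congrArg (fun w : N => ((w : (S : Subgroup G).map π) : G ⧸ X)) h1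
    · rw [hyz] at h
      have : z = 1 := Subtype.ext (Subtype.ext h)
      rw [this, orderOf_one] at hz
      exact hp.out.one_lt.ne hz
  set yb := π y₀ with hybdef
  have hYcomm : IsMulCommutative Y :=
    Fusion.isMulCommutative_of_forall fun a ha b hb =>
      Fusion.commute_of_isMulCommutative (Fusion.zInter_comm 0 _) (hY ha) (hY hb)
  -- `y` lies in the `p`-core
  have hy₀Q : y₀ ∈ Q := by
    let K₀ : Subgroup G :=
      { carrier := {g | g ∈ centralizer (X : Set G) ∧ ∀ q ∈ Q, Commute (π g) (π q)}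
        one_mem' := ⟨one_mem _, fun q _ => by rw [map_one]; exact Commute.one_left _⟩
        mul_mem' := fun {a b} ha hb => ⟨mul_mem ha.1 hb.1, fun q hq => by
          rw [map_mul]; exact (ha.2 q hq).mul_left (hb.2 q hq)⟩
        inv_mem' := fun {a} ha => ⟨inv_mem ha.1, fun q hq => by
          rw [map_inv]; exact (ha.2 q hq).inv_left⟩ }
    have hK₀n : K₀.Normal := ⟨fun a ha x => ⟨(centralizer_normal X).conj_mem a ha.1 x, fun q hq => by
      have h1 := ha.2 (x⁻¹ * q * x) (by simpa using (inferInstance : Q.Normal).conj_mem q hq x⁻¹)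
      have h2 := h1.map (MulAut.conj (π x)).toMonoidHom
      simpa [map_mul, map_inv, mul_assoc] using h2⟩⟩
    have hy₀K : y₀ ∈ K₀ := by
      refine ⟨mem_centralizer_iff.mpr fun x hx => ?_, fun q hq => (hy₀S q (hQS hq)).symm⟩
      exact Fusion.commute_of_isMulCommutative hYcomm (hXY hx) hy₀
    obtain ⟨R, hR⟩ := Control.SylIn.exists_sylow (G := K₀)
      (T := ((S : Subgroup G) ⊓ K₀).subgroupOf K₀) (p := p)
      ⟨le_top, S.2.to_inf_left.comap_subtype, by
        rw [relIndex_top_right]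
        exact ((Control.sylIn_top S).inf_normal (N := K₀) le_top
          (fun g _ => normalizer_eq_top K₀ ▸ mem_top g)).not_dvd⟩
    have hres : ∀ b : K₀, b ∈ Cfsg.pResidual p K₀ → (b : G) ∈ C := by
      intro b hb
      rw [Cfsg.pResidual] at hb
      refine Subgroup.closure_induction (p := fun (b : K₀) _ => (b : G) ∈ C)
        ?_ (one_mem _) (fun a b _ _ ha hb => mul_mem ha hb) (fun a _ ha => inv_mem ha) hb
      intro b hb
      have hb' : (orderOf (b : G)).Coprime p := by rwa [Subgroup.orderOf_coe]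
      rw [hC, mem_centralizer_iff]
      intro q hq
      refine (commute_of_stable (S.2.to_le (hXY.trans hYS)) hb' b.2.1 ?_).eq.symm
      refine (QuotientGroup.eq_one_iff _).mp ?_
      show π _ = 1
      simp only [map_mul, map_inv]
      rw [(b.2.2 q hq).eq, mul_inv_cancel_right, mul_inv_cancel]
    have hK₀M : K₀ ≤ M₀ := by
      intro x hx
      obtain ⟨t, ht, o, ho, hto⟩ :=
        mem_sup_of_normal_right.mp ((Fusion.sylow_sup_pResidual R).ge (mem_top (⟨x, hx⟩ : K₀)))
      rw [show x = (t : G) * (o : G) from congrArg Subtype.val hto.symm]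
      rw [hR] at ht
      exact mul_mem (hSM₀ ht.1) (mem_sup_right (hres o ho))
    have hn := sylow_inf_normal S hM₀ uniq hK₀M
    exact Core.le_pCore (S.2.to_inf_left (K := K₀)) ⟨hYS hy₀, hy₀K⟩
  -- the module
  set VQ := normalClosure ({yb} : Set (G ⧸ X)) with hVQ
  have hybV : yb ∈ VQ := subset_normalClosure rfl
  set QQ := Q.map π with hQQ
  have hQQn : QQ.Normal := (inferInstance : Q.Normal).map π hπ
  have hVle : VQ ≤ QQ ⊓ centralizer (QQ : Set (G ⧸ X)) := by
    have : (centralizer (QQ : Set (G ⧸ X))).Normal := centralizer_normal QQ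
    refine normalClosure_le_normal (Set.singleton_subset_iff.mpr ⟨mem_map_of_mem π hy₀Q, ?_⟩)
    refine mem_centralizer_iff.mpr ?_
    rintro _ ⟨q, hq, rfl⟩
    exact (hy₀S q (hQS hq)).eq
  have hVc : ∀ v w : VQ, v * w = w * v := fun v w =>
    Subtype.ext (mem_centralizer_iff.mp (hVle w.2).2 v (hVle v.2).1)
  let : CommGroup VQ := { (inferInstance : Group VQ) with mul_comm := hVc }
  have hVp : ∀ v : VQ, v ^ p = 1 := by
    have hle : VQ ≤ (powMonoidHom p : VQ →* VQ).ker.map VQ.subtype := by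
      have hn : ((powMonoidHom p : VQ →* VQ).ker.map VQ.subtype).Normal := by
        refine ⟨?_⟩
        rintro _ ⟨v, hv, rfl⟩ x
        refine ⟨⟨x * v * x⁻¹, (inferInstance : VQ.Normal).conj_mem v v.2 x⟩, ?_, rfl⟩
        refine Subtype.ext ?_
        show (x * (v : G ⧸ X) * x⁻¹) ^ p = 1
        rw [conj_pow, show (v : G ⧸ X) ^ p = 1 from congrArg Subtype.val hv, mul_one, mul_inv_cancel]
      exact normalClosure_le_normal (Set.singleton_subset_iff.mpr
        ⟨⟨yb, hybV⟩, Subtype.ext hy₀p, rfl⟩)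
    intro v
    obtain ⟨w, hw, hwv⟩ := hle v.2
    obtain rfl : w = v := Subtype.ext hwv
    exact hw
  set V := VQ.comap π with hVdef
  have hVQ' : V ≤ Q := fun x hx => hcomap hXQ (hVle hx).1
  set Ψ : G →* MulAut VQ := (MulAut.conjNormal (H := VQ)).comp π with hΨ
  set L := Ψ.ker with hL
  have hΨapply : ∀ (x : G) (v : VQ), ((Ψ x v : VQ) : G ⧸ X) = π x * v * (π x)⁻¹ := fun x v =>
    MulAut.conjNormal_apply (π x) v
  have hLmem : ∀ x : G, (∀ v ∈ V, Commute (π x) (π v)) → x ∈ L := fun x hx => by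
    refine MulEquiv.ext fun v => Subtype.ext ?_
    obtain ⟨w, hw⟩ := hπ v.1
    show ((Ψ x v : VQ) : G ⧸ X) = v
    rw [hΨapply, ← hw, (hx w (show π w ∈ VQ from hw ▸ v.2)).eq, mul_inv_cancel_right]
  have hQL : Q ≤ L := fun q hq => hLmem q fun v hv =>
    (mem_centralizer_iff.mp (hVle hv).2 (π q) (mem_map_of_mem π hq))
  have hfix_normal : (∀ x : G, Commute (π x) yb) → False := by
    intro h
    have hn : (zpowers yb).Normal := ⟨by
      rintro _ ⟨i, rfl⟩ x
      obtain ⟨x, rfl⟩ := hπ x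
      rw [((h x).zpow_right i).eq, mul_inv_cancel_right]
      exact zpow_mem (mem_zpowers _) i⟩
    have hle : (zpowers yb).comap π ≤ Y := by
      intro x hx
      refine hcomap hXY ?_
      exact zpowers_le.mpr (mem_map_of_mem π hy₀) hx
    have hn' : ((zpowers yb).comap π).Normal := hn.comap π
    have := normal_le_normalCore.mpr hle (show y₀ ∈ (zpowers yb).comap π from mem_zpowers _)
    exact hy₀1 ((QuotientGroup.eq_one_iff y₀).mpr this)
  let St : Subgroup G :=
    { carrier := {x | Commute (π x) yb}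
      one_mem' := by show Commute (π 1) yb; rw [map_one]; exact Commute.one_left _
      mul_mem' := fun {a b} ha hb => by show Commute (π (a * b)) yb; rw [map_mul]; exact ha.mul_left hb
      inv_mem' := fun {a} ha => by show Commute (π a⁻¹) yb; rw [map_inv]; exact ha.inv_left }
  have hStM : St ≤ M₀ := uniq St (fun h => hfix_normal fun x => (h.ge (mem_top x) : x ∈ St))
    fun s hs => hy₀S s hs
  have hLM : L ≤ M₀ := fun x hx => hStM (by
    show Commute (π x) yb
    have h1 := congrArg (fun φ : MulAut VQ => ((φ ⟨yb, hybV⟩ : VQ) : G ⧸ X)) (MonoidHom.mem_ker.mp hx)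
    simp only [hΨapply, MulAut.one_apply] at h1
    exact mul_inv_eq_iff_eq_mul.mp h1)
  -- a quadratic element
  have hYA : ∀ B, AbMax 0 (S : Subgroup G) B → Y ≤ B := fun B hB => hY.trans (Fusion.zInter_le_of_abMax hB)
  have hconjMax : ((S : Subgroup G) ⊓ L).Normal → ∀ B, AbMax 0 (S : Subgroup G) B → B ≤ L → ∀ x : G,
      AbMax 0 (S : Subgroup G) (B.map (MulAut.conj x).toMonoidHom) := by
    intro hEn B hB hBL x
    have hB0 := hB.toAbMem.map (MulAut.conj x).toMonoidHom
    refine ⟨⟨?_, hB0.comm, fun _ _ => pow_zero _⟩, fun B' hB' => ?_⟩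
    · rintro _ ⟨z, hz, rfl⟩
      exact (hEn.conj_mem z ⟨hB.le hz, hBL hz⟩ x).1
    · rw [card_map_of_injective (MulAut.conj x).injective]
      exact hB.max B' hB'
  obtain ⟨a₀, ha₀S, ha₀L, ha₀q⟩ : ∃ a ∈ (S : Subgroup G), a ∉ L ∧
      ∀ v ∈ V, Commute (π a) (π (a * v * a⁻¹ * v⁻¹)) := by
    by_cases hall : ∀ B, AbMax 0 (S : Subgroup G) B → B ≤ L
    · exfalso
      have hEn := sylow_inf_normal S hM₀ uniq hLM
      refine hnt (top_le_iff.mp (le_trans (fun x _ => ?_) hN))
      refine mem_normalizer_of_conj fun z hz => mem_sInf.mpr fun B hB => ?_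
      obtain ⟨w, hw, hwz⟩ := mem_sInf.mp hz _ (hconjMax hEn B hB (hall B hB) x⁻¹)
      have hwz' : z = x⁻¹ * w * x⁻¹⁻¹ := hwz.symm
      rw [hwz', show x * (x⁻¹ * w * x⁻¹⁻¹) * x⁻¹ = w by group]
      exact hw
    push Not at hall
    obtain ⟨B, ⟨hB, hBL⟩, hmax⟩ :=
      (Set.toFinite {B : Subgroup G | AbMax 0 (S : Subgroup G) B ∧ ¬ B ≤ L}).exists_maximalFor
        (fun B : Subgroup G => Nat.card (B ⊓ V : Subgroup G)) _ hall
    have hVn : V.Normal := (normalClosure_normal).comap π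
    have hV'X : ⁅V, V⁆ ≤ X := by
      rw [commutator_le]
      intro x hx y hy
      refine (QuotientGroup.eq_one_iff _).mp ?_
      show π _ = 1
      rw [map_commutatorElement, commutatorElement_eq_one_iff_commute]
      exact congrArg Subtype.val (hVc ⟨π x, hx⟩ ⟨π y, hy⟩)
    by_cases hnorm : V ≤ normalizer (B : Set G)
    · obtain ⟨a, haB, haL⟩ := SetLike.not_le_iff_exists.mp hBL
      refine ⟨a, hB.le haB, haL, fun v hv => Commute.map ?_ π⟩
      refine Fusion.commute_of_isMulCommutative hB.comm haB ?_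
      rw [show a * v * a⁻¹ * v⁻¹ = a * (v * a⁻¹ * v⁻¹) by group]
      exact mul_mem haB ((mem_normalizer_iff.mp (hnorm hv) _).mp (inv_mem haB))
    exfalso
    obtain ⟨B', hB', -, hlt, hVB', -⟩ := Fusion.exists_abMax_inf_lt h2 (Or.inl rfl) S.2
      (hVQ'.trans hQS) (fun x _ => normalizer_eq_top V ▸ mem_top x) le_rfl le_normalizer hB
      (hV'X.trans (hXY.trans (hYA B hB))) hnorm
    have hB'L : B' ≤ L := by
      by_contra h
      have := Core.card_lt_of_lt hlt
      exact this.not_ge (hmax ⟨hB', h⟩ this.le)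
    have hEn := sylow_inf_normal S hM₀ uniq hLM
    refine hVB' fun v hv => hcomap (hXY.trans (hYA B' hB')) ?_
    refine (closure_le _).mpr ?_ (hv : π v ∈ VQ)
    intro c hc
    obtain ⟨_, rfl, hcc⟩ := Group.mem_conjugatesOfSet_iff.mp hc
    obtain ⟨x, rfl⟩ := isConj_iff.mp hcc
    obtain ⟨x, rfl⟩ := hπ x
    obtain ⟨w, hw, hwy⟩ := hYA _ (hconjMax hEn B' hB' hB'L x⁻¹) hy₀
    refine ⟨w, hw, ?_⟩
    rw [hybdef, ← map_inv, ← map_mul, ← map_mul]
    congr 1
    rw [← hwy]
    show w = x * (x⁻¹ * w * x⁻¹⁻¹) * x⁻¹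
    group
  -- the linear group
  set H := Ψ.range
  set σ := Ψ.rangeRestrict
  have hσ : Function.Surjective σ := MonoidHom.rangeRestrict_surjective Ψ
  have hσker : ∀ {x y : G}, σ x = σ y → x⁻¹ * y ∈ L := fun {x y} h => by
    rw [hL, MonoidHom.mem_ker, map_mul, map_inv,
      show Ψ x = Ψ y from congrArg Subtype.val h, inv_mul_cancel]
  have hMmem : ∀ {U : Subgroup G}, L ≤ U → ∀ {x : G}, σ x ∈ U.map σ → x ∈ U := by
    intro U hU x hx
    obtain ⟨y, hy, hyx⟩ := hx
    have := mul_mem hy (hU (hσker hyx))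
    rwa [mul_inv_cancel_left] at this
  let ρ : H →* AddMonoid.End (Additive VQ) :=
    { toFun := fun h => MonoidHom.toAdditive (h : MulAut VQ).toMonoidHom
      map_one' := rfl
      map_mul' := fun _ _ => rfl }
  have hρ : Function.Injective ρ := fun h k e => Subtype.ext (MulEquiv.ext fun w =>
    congrArg Additive.toMul (DFunLike.congr_fun e (Additive.ofMul w)))
  have hρapply : ∀ (x : G) (v : Additive VQ),
      (((ρ (σ x) v).toMul : VQ) : G ⧸ X) = π x * (v.toMul : G ⧸ X) * (π x)⁻¹ := fun x v =>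
    hΨapply x v.toMul
  have hV0 : ∀ v : Additive VQ, p • v = 0 := fun v => Additive.toMul.injective (hVp v.toMul)
  have hE0 : ((p : ℕ) : AddMonoid.End (Additive VQ)) = 0 := AddMonoidHom.ext fun z => hV0 z
  have : Finite (AddMonoid.End (Additive VQ)) := Finite.of_injective _ DFunLike.coe_injective
  set D : Set H := {d | (ρ d - 1) * (ρ d - 1) = 0} with hDdef
  have hDp : ∀ d ∈ D, IsPGroup p (zpowers d) := by
    intro d hd
    have hn : ∀ n : ℕ, (1 + (ρ d - 1)) ^ n = 1 + n * (ρ d - 1) := by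
      intro n
      induction n with
      | zero => simp
      | succ n ih =>
        rw [pow_succ, ih, Nat.cast_succ, mul_add, mul_one, add_mul, one_mul, mul_assoc,
          (hd : (ρ d - 1) * (ρ d - 1) = 0), mul_zero, add_zero, add_mul, one_mul, add_assoc]
    have hdp : d ^ p = 1 := hρ <| by
      have := hn p
      rw [add_sub_cancel, hE0, zero_mul, add_zero] at this
      rw [map_pow, map_one, this]
    obtain ⟨k, -, hk⟩ := (Nat.dvd_prime_pow hp.out).mp
      (orderOf_dvd_of_pow_eq_one (show d ^ p ^ 1 = 1 by rwa [pow_one]))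
    exact IsPGroup.of_card (n := k) (by rw [Nat.card_zpowers, hk])
  have hDconj : ∀ d ∈ D, ∀ h : H, h * d * h⁻¹ ∈ D := by
    intro d hd h
    show (ρ (h * d * h⁻¹) - 1) * (ρ (h * d * h⁻¹) - 1) = 0
    have h1 : ρ h⁻¹ * ρ h = 1 := by rw [← map_mul, inv_mul_cancel, map_one]
    have h2 : ρ h * ρ h⁻¹ = 1 := by rw [← map_mul, mul_inv_cancel, map_one]
    have h3 : ρ (h * d * h⁻¹) - 1 = ρ h * (ρ d - 1) * ρ h⁻¹ := by
      rw [map_mul, map_mul, mul_sub, mul_one, sub_mul, h2]
    rw [h3, show ρ h * (ρ d - 1) * ρ h⁻¹ * (ρ h * (ρ d - 1) * ρ h⁻¹) =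
      ρ h * (ρ d - 1) * (ρ h⁻¹ * ρ h) * (ρ d - 1) * ρ h⁻¹ by simp [mul_assoc], h1, mul_one,
      mul_assoc (ρ h) (ρ d - 1), (hd : (ρ d - 1) * (ρ d - 1) = 0), mul_zero, zero_mul]
  have haD : σ a₀ ∈ D := by
    refine AddMonoidHom.ext fun z => ?_
    show ρ (σ a₀) (ρ (σ a₀) z - z) - (ρ (σ a₀) z - z) = 0
    rw [sub_eq_zero]
    refine Additive.toMul.injective (Subtype.ext ?_)
    rw [hρapply, toMul_sub, div_eq_mul_inv, Subgroup.coe_mul, InvMemClass.coe_inv, hρapply]
    obtain ⟨w, hw⟩ := hπ ((z.toMul : VQ) : G ⧸ X)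
    have := ha₀q w (show π w ∈ VQ from hw ▸ z.toMul.2)
    rw [map_mul, map_mul, map_mul, map_inv, map_inv, hw] at this
    rw [this.eq, mul_inv_cancel_right]
  set SH := S.mapSurjective hσ
  have hSH : (SH : Subgroup H) = (S : Subgroup G).map σ := Sylow.coe_mapSurjective hσ S
  have hsmall : ∀ U : Subgroup H, U.Normal → U ≤ (SH : Subgroup H) → U = ⊥ := by
    intro U hUn hUS
    set W := U.comap σ
    have : W.Normal := hUn.comap σ
    have hWle : W ≤ ((S : Subgroup G) ⊓ W) ⊔ L := by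
      intro w hw
      obtain ⟨s, hs, hsw⟩ := (hSH ▸ hUS hw : σ w ∈ (S : Subgroup G).map σ)
      have h1 : s ∈ W := show σ s ∈ U from hsw ▸ hw
      have := mul_mem (mem_sup_left ⟨hs, h1⟩ : s ∈ ((S : Subgroup G) ⊓ W) ⊔ L)
        (mem_sup_right (hσker hsw))
      rwa [mul_inv_cancel_left] at this
    have hWM : W ≤ M₀ := hWle.trans (sup_le (inf_le_left.trans hSM₀) hLM)
    have hn := sylow_inf_normal S hM₀ uniq hWM
    have hWL : W ≤ L := hWle.trans
      (sup_le ((Core.le_pCore (S.2.to_inf_left (K := W))).trans hQL) le_rfl)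
    refine le_bot_iff.mp fun h hh => ?_
    obtain ⟨x, rfl⟩ := hσ h
    exact mem_bot.mpr (Subtype.ext (MonoidHom.mem_ker.mp (hWL hh)))
  set M := M₀.map σ
  have hND : normalizer (closure (D ∩ (SH : Subgroup H) : Set H) : Set H) ≤ M := by
    set E := closure (D ∩ (SH : Subgroup H) : Set H)
    intro x hx
    obtain ⟨x, rfl⟩ := hσ x
    refine mem_map_of_mem σ (uniq ((normalizer (E : Set H)).comap σ) ?_ ?_ hx)
    · intro htop
      have hEn : E.Normal := normalizer_eq_top_iff.mp (top_le_iff.mp fun h _ => by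
        obtain ⟨y, rfl⟩ := hσ h
        exact htop.ge (mem_top y))
      have h0 := hsmall E hEn ((closure_le _).mpr fun d hd => hd.2)
      have h1 : σ a₀ ∈ E := subset_closure ⟨haD, hSH.ge (mem_map_of_mem σ ha₀S)⟩
      rw [h0, mem_bot] at h1
      exact ha₀L (MonoidHom.mem_ker.mpr (congrArg Subtype.val h1))
    · intro s hs
      have hsH : σ s ∈ (SH : Subgroup H) := hSH.ge (mem_map_of_mem σ hs)
      refine mem_normalizer_of_conj fun y hy => ?_
      have hle : E ≤ E.comap (MulAut.conj (σ s)).toMonoidHom := (closure_le _).mpr fun d hd =>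
        subset_closure ⟨hDconj d hd.1 (σ s), mul_mem (mul_mem hsH hd.2) (inv_mem hsH)⟩
      exact hle hy
  have hbad : ∃ d ∈ D, d ∉ M := by
    by_contra hc
    push Not at hc
    set N₁ := closure D
    have hN₁ : N₁.Normal := ⟨fun y hy h => (closure_le (K := N₁.comap (MulAut.conj h).toMonoidHom)).mpr
      (fun d hd => subset_closure (hDconj d hd h)) hy⟩
    have hWM : N₁.comap σ ≤ M₀ := fun x hx => hMmem hLM ((closure_le _).mpr hc hx)
    have := hN₁.comap σ
    have hn := sylow_inf_normal S hM₀ uniq hWM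
    exact ha₀L (hQL (Core.le_pCore (S.2.to_inf_left (K := N₁.comap σ))
      ⟨ha₀S, subset_closure haD⟩))
  have hSHM : (SH : Subgroup H) ≤ M := hSH.le.trans (map_mono hSM₀)
  obtain ⟨R, a, b, hd⟩ := exists_deep SH hSHM hDconj hDp hND hbad
  obtain ⟨m', hm'M, hm'⟩ := ((Control.sylIn_top SH).mono hSHM le_top).exists_cjSub_le
    (hDp a hd.a_mem) (zpowers_le.mpr hd.a_in)
  obtain ⟨m, hm, hmm'⟩ := (inv_mem hm'M : m'⁻¹ ∈ M₀.map σ)
  set u₀ := m * y₀ * m⁻¹ with hu₀
  have hu₀Y : u₀ ∈ Y := by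
    obtain ⟨n, hn, c, hc, rfl⟩ := mem_sup_of_normal_right.mp hm
    have h1 : c * y₀ * c⁻¹ = y₀ := by
      rw [← mem_centralizer_iff.mp hc y₀ hy₀Q, mul_inv_cancel_right]
    rw [hu₀, show n * c * y₀ * (n * c)⁻¹ = n * (c * y₀ * c⁻¹) * n⁻¹ by group, h1]
    exact (mem_normalizer_iff.mp hn y₀).mp hy₀
  have hu₀V : π u₀ ∈ VQ := by
    rw [hu₀, map_mul, map_mul, map_inv]
    exact (inferInstance : VQ.Normal).conj_mem _ hybV _
  set u : Additive VQ := Additive.ofMul ⟨π u₀, hu₀V⟩
  set y₁ : Additive VQ := Additive.ofMul ⟨yb, hybV⟩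
  have hcomp : ∀ (k l : H) (v : Additive VQ), ρ (k * l) v = ρ k (ρ l v) := fun k l v =>
    DFunLike.congr_fun (map_mul ρ k l) v
  have huy : u = ρ m'⁻¹ y₁ := by
    rw [← hmm']
    refine Additive.toMul.injective (Subtype.ext ?_)
    rw [hρapply]
    show π (m * y₀ * m⁻¹) = π m * yb * (π m)⁻¹
    rw [map_mul, map_mul, map_inv]
  have hfixM : ∀ h : H, ρ h y₁ = y₁ → h ∈ M := by
    intro h hh
    obtain ⟨x, rfl⟩ := hσ h
    refine mem_map_of_mem σ (hStM ?_)
    have h1 := congrArg (fun v : Additive VQ => ((v.toMul : VQ) : G ⧸ X)) hh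
    simp only [hρapply] at h1
    exact mul_inv_eq_iff_eq_mul.mp h1
  have hSfix : ∀ h ∈ (SH : Subgroup H), ρ h y₁ = y₁ := by
    intro h hh
    obtain ⟨s, hs, rfl⟩ := hSH.le hh
    refine Additive.toMul.injective (Subtype.ext ?_)
    rw [hρapply]
    show π s * yb * (π s)⁻¹ = yb
    rw [(hy₀S s hs).eq, mul_inv_cancel_right]
  have hau : ρ a u = u := by
    have h1 := hSfix _ (hm' (Control.mem_cjSub.mpr (by
      rw [show m'⁻¹ * (m' * a * m'⁻¹) * m' = a by group]; exact mem_zpowers a) :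
        m' * a * m'⁻¹ ∈ Control.cjSub m' (zpowers a)))
    rw [huy, ← hcomp]
    conv_rhs => rw [← h1, ← hcomp]
    rw [show m'⁻¹ * (m' * a * m'⁻¹) = a * m'⁻¹ by group]
  have hu : ∀ h : H, ρ h u = u → h ∈ M := by
    intro h hh
    have h1 : ρ (m' * h * m'⁻¹) y₁ = y₁ := by
      rw [hcomp, hcomp, ← huy, hh, huy, ← hcomp, mul_inv_cancel, map_one]
      rfl
    have := mul_mem (mul_mem (inv_mem hm'M) (hfixM _ h1)) hm'M
    rwa [show m'⁻¹ * (m' * h * m'⁻¹) * m' = h by group] at this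
  obtain ⟨K₅, W, θ, A₅, hK₅W, huW, hK₅M, hθs, hθu, hup, htor, heq⟩ :=
    exists_borel h2 hV0 ρ (fun d hd => hDp d hd) hd hau hu
  set K := K₅.comap σ
  let Wg : Subgroup G :=
    { carrier := {x | ∃ h : π x ∈ VQ, Additive.ofMul (⟨π x, h⟩ : VQ) ∈ W}
      one_mem' := ⟨by rw [map_one]; exact one_mem _, by
        convert W.zero_mem using 1
        exact Additive.toMul.injective (Subtype.ext (map_one π))⟩
      mul_mem' := fun {x y} ⟨hx, hxW⟩ ⟨hy, hyW⟩ => ⟨by rw [map_mul]; exact mul_mem hx hy, by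
        convert W.add_mem hxW hyW using 1
        exact Additive.toMul.injective (Subtype.ext (map_mul π x y))⟩
      inv_mem' := fun {x} ⟨hx, hxW⟩ => ⟨by rw [map_inv]; exact inv_mem hx, by
        convert W.neg_mem hxW using 1
        exact Additive.toMul.injective (Subtype.ext (map_inv π x))⟩ }
  have hWgV : ∀ x ∈ Wg, x ∈ V := fun x hx => hx.choose
  have hσWg : ∀ x ∈ Wg, σ x = 1 := fun x hx =>
    Subtype.ext (MonoidHom.mem_ker.mp (hQL (hVQ' (hWgV x hx))))
  have hWgK : Wg ≤ K := fun x hx => show σ x ∈ K₅ by rw [hσWg x hx]; exact one_mem _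
  have hKWg : K ≤ normalizer (Wg : Set G) := by
    intro k hk
    refine mem_normalizer_of_conj fun x ⟨hx, hxW⟩ => ?_
    have hx' : π (k * x * k⁻¹) ∈ VQ := by
      rw [map_mul, map_mul, map_inv]
      exact (inferInstance : VQ.Normal).conj_mem _ hx _
    refine ⟨hx', ?_⟩
    convert hK₅W (σ k) hk _ hxW using 1
    refine Additive.toMul.injective (Subtype.ext ?_)
    rw [hρapply]
    show π (k * x * k⁻¹) = π k * π x * (π k)⁻¹
    rw [map_mul, map_mul, map_inv]
  let ι : Wg → W := fun x => ⟨Additive.ofMul ⟨π (x : G), x.2.choose⟩, x.2.choose_spec⟩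
  let Θ : Wg →* Multiplicative (Fin 2 → ZMod p) :=
    MonoidHom.mk' (fun x => Multiplicative.ofAdd (θ (ι x))) fun x y => by
      rw [← ofAdd_add, ← map_add]
      congr 2
  have hΘs : Function.Surjective Θ := fun z => by
    obtain ⟨⟨w, hw⟩, hwz⟩ := hθs z.toAdd
    obtain ⟨x, hx⟩ := hπ (w.toMul : G ⧸ X)
    have hxV : π x ∈ VQ := hx ▸ w.toMul.2
    have he : Additive.ofMul (⟨π x, hxV⟩ : VQ) = w := Additive.toMul.injective (Subtype.ext hx)
    refine ⟨⟨x, hxV, he ▸ hw⟩, ?_⟩
    show Multiplicative.ofAdd (θ _) = z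
    rw [show ι ⟨x, hxV, he ▸ hw⟩ = ⟨w, hw⟩ from Subtype.ext he, hwz]
    rfl
  let A' : K →* Matrix.SpecialLinearGroup (Fin 2) (ZMod p) := A₅.comp (σ.subgroupComap K₅)
  have hσK : Function.Surjective (σ.subgroupComap K₅) := fun y => by
    obtain ⟨x, hx⟩ := hσ y.1
    exact ⟨⟨x, show σ x ∈ K₅ from hx ▸ y.2⟩, Subtype.ext hx⟩
  have hrange : A'.range = A₅.range := by
    rw [MonoidHom.range_comp, MonoidHom.range_eq_top.mpr hσK, ← MonoidHom.range_eq_map]
  obtain ⟨T, h, hTK, hhK, hTp, hpre⟩ := exists_torus h2 hWgK hKWg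
    ((Core.pCore_isPGroup (p := p) (G := G)).to_le fun x hx => hVQ' (hWgV x hx)) A'
    (fun k hk => by
      show A₅ (σ.subgroupComap K₅ k) = 1
      rw [show σ.subgroupComap K₅ k = 1 from Subtype.ext (hσWg _ hk), map_one])
    (hrange ▸ hup) (fun ω => hrange ▸ htor ω) Θ hΘs
    (fun k w w' hw => by
      show Multiplicative.ofAdd (θ (ι w')) =
        QdFree.vecAct (A₅ (σ.subgroupComap K₅ k)) (Multiplicative.ofAdd (θ (ι w)))
      refine Multiplicative.toAdd.injective ?_
      rw [QdFree.vecAct_apply, toAdd_ofAdd, toAdd_ofAdd, ← heq]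
      congr 1
      refine Subtype.ext (Additive.toMul.injective (Subtype.ext ?_))
      show π (w' : G) = ((ρ (σ (k : G)) (ι w : Additive VQ)).toMul : VQ)
      rw [hρapply, hw, map_mul, map_mul, map_inv]
      rfl)
    (Y := Y ⊓ Q) ⟨u₀, hu₀V, huW⟩
    (by
      show Multiplicative.ofAdd (θ _) = _
      rw [show ι ⟨u₀, hu₀V, huW⟩ = ⟨u, huW⟩ from rfl, hθu])
    ⟨hu₀Y, hVQ' hu₀V⟩
  have hKM : K ≤ M₀ := fun x hx => hMmem hLM (hK₅M hx)
  obtain ⟨m₂, hm₂, hTS⟩ := ((Control.sylIn_top S).mono hSM₀ le_top).exists_cjSub_le hTp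
    (hTK.trans hKM)
  have hpre₂ := hpre.map (φ := (MulAut.conj m₂).toMonoidHom) (MulAut.conj m₂).injective
  have hY₂ : (Y ⊓ Q).map (MulAut.conj m₂).toMonoidHom ≤ Y := by
    rintro _ ⟨z, hz, rfl⟩
    obtain ⟨n, hn, c, hc, rfl⟩ := mem_sup_of_normal_right.mp hm₂
    show n * c * z * (n * c)⁻¹ ∈ Y
    have h1 : c * z * c⁻¹ = z := by rw [← mem_centralizer_iff.mp hc z hz.2, mul_inv_cancel_right]
    rw [show n * c * z * (n * c)⁻¹ = n * (c * z * c⁻¹) * n⁻¹ by group, h1]
    exact (mem_normalizer_iff.mp hn z).mp hz.1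
  have hh₂ : (MulAut.conj m₂).toMonoidHom h ∈ M₀ := mul_mem (mul_mem hm₂ (hKM hhK)) (inv_mem hm₂)
  obtain ⟨y, hy, hye⟩ := acts_sub IH S hY hN hW hM₀ hSM₀
    (B := (T.map (MulAut.conj m₂).toMonoidHom : Set G)) (SetLike.coe_subset_coe.mpr hTS) hh₂
    fun z hz => hTS ((mem_normalizer_iff.mp hpre₂.1 z).mp hz)
  exact hW ⟨_, y, hTS, hy, (hpre₂.congr hye).mono hY₂⟩

end Cfsg.Agent.ZJFail
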