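import Cfsg.Agent.ZJFail.Basic

/-!
# Reduction modulo the `p`-core

If `C_S(O_p(G)) ≰ O_p(G)`, control passes from proper subgroups and from `G / O_p(G)` to `G`.
-/

set_option autoImplicit false
set_option maxHeartbeats 800000

namespace Cfsg.Agent.ZJFail

open Subgroup
open Cfsg.Agent
open Cfsg.Agent.QdFree.ZJControl

universe u

variable {p : ℕ} [hp : Fact p.Prime] {G : Type u} [Group G] [Finite G]

/-- The reduction modulo the `p`-core. -/
theorem acts_of_not_centric (IH : Smaller p G) (S : Sylow p G) {Y : Subgroup G}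
    (hY : Y ≤ Fusion.zInter 0 (S : Subgroup G))
    (hN : normalizer (Fusion.zInter 0 (S : Subgroup G) : Set G) ≤ normalizer (Y : Set G))
    (hW : ¬ Wit p (S : Subgroup G) Y) (hnt : normalizer (Y : Set G) ≠ ⊤)
    (hQ1 : Cfsg.pCore p G ≠ ⊥)
    (hcent : ¬ (S : Subgroup G) ⊓ centralizer (Cfsg.pCore p G : Set G) ≤ Cfsg.pCore p G)
    {A : Set G} (hA : A ⊆ (S : Subgroup G)) {g : G}
    (hg : ∀ a ∈ A, g * a * g⁻¹ ∈ (S : Subgroup G)) : Acts (normalizer (Y : Set G)) A g := by
  set NZ := normalizer (Y : Set G) with hNZ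
  have hSN : (S : Subgroup G) ≤ NZ :=
    (le_normalizer.trans (sylow_le_normalizer_zInter _)).trans hN
  have hYS : Y ≤ (S : Subgroup G) := hY.trans (Fusion.zInter_le 0 _)
  have sub : ∀ M : Subgroup G, M ≠ ⊤ → (S : Subgroup G) ≤ M → ∀ B : Set G, B ⊆ (S : Subgroup G) →
      ∀ x ∈ M, (∀ b ∈ B, x * b * x⁻¹ ∈ (S : Subgroup G)) → Acts NZ B x :=
    fun M hM hSM B hB x hx hxB => acts_sub IH S hY hN hW hM hSM hB hx hxB
  set Q := Cfsg.pCore p G with hQdef
  have hQS : Q ≤ (S : Subgroup G) := Core.pCore_le_sylow S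
  set C := centralizer (Q : Set G) with hC
  have hCn : C.Normal := centralizer_normal Q
  by_cases hM2 : (S : Subgroup G) ⊔ C = ⊤
  swap
  · -- `G = C(Q) N(E)`
    set L := Q ⊔ C
    set E := (S : Subgroup G) ⊓ L
    have hSE : (S : Subgroup G) ≤ normalizer (E : Set G) := fun s hs => mem_normalizer_of_conj
      fun x hx => ⟨(S : Subgroup G).mul_mem ((S : Subgroup G).mul_mem hs hx.1) ((S : Subgroup G).inv_mem hs), (inferInstance : L.Normal).conj_mem x hx.2 s⟩
    have hNE : normalizer (E : Set G) ≠ ⊤ := by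
      intro h
      have hEn : E.Normal := normalizer_eq_top_iff.mp h
      exact hcent fun x hx => Core.le_pCore (S.2.to_le inf_le_left : IsPGroup p E)
        (show x ∈ E from ⟨hx.1, mem_sup_right hx.2⟩)
    have hFr : normalizer (E : Set G) ⊔ L = ⊤ := by
      obtain ⟨R, hR⟩ := Control.SylIn.exists_sylow (G := L) (T := E.subgroupOf L)
        ⟨le_top, (S.2.to_inf_left : IsPGroup p E).comap_subtype, by
          rw [relIndex_top_right]
          exact ((Control.sylIn_top S).inf_normal (N := L) le_top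
            (fun g _ => normalizer_eq_top L ▸ mem_top g)).not_dvd⟩
      have := Sylow.normalizer_sup_eq_top R
      rwa [hR, map_subgroupOf_eq_of_le inf_le_right] at this
    obtain ⟨c, hc, m, hm, hcm⟩ : ∃ c ∈ C, ∃ m ∈ normalizer (E : Set G), c * m = g := by
      obtain ⟨m, hm, l, hl, rfl⟩ := mem_sup_of_normal_right.mp (hFr.ge (mem_top g))
      obtain ⟨q, hq, c, hc, rfl⟩ := mem_sup_of_normal_right.mp hl
      refine ⟨m * q * c * (m * q)⁻¹, hCn.conj_mem c hc _, m * q,
        mul_mem hm (le_normalizer ⟨hQS hq, mem_sup_left hq⟩), by group⟩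
    set M2 := (S : Subgroup G) ⊔ C
    set X := Subgroup.closure ((fun a => m * a * m⁻¹) '' A)
    have hXM : X ≤ normalizer (E : Set G) ⊓ M2 := by
      rw [closure_le]
      rintro _ ⟨a, ha, rfl⟩
      refine ⟨(normalizer (E : Set G)).mul_mem ((normalizer (E : Set G)).mul_mem hm (hSE (hA ha))) ((normalizer (E : Set G)).inv_mem hm), ?_⟩
      have h1 : g * a * g⁻¹ ∈ M2 := mem_sup_left (hg a ha)
      rw [← hcm] at h1
      have hc2 : c ∈ M2 := mem_sup_right hc
      have h3 := mul_mem (mul_mem (inv_mem hc2) h1) hc2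
      show m * a * m⁻¹ ∈ M2
      convert h3 using 1
      group
    have hXp : IsPGroup p X := by
      have hX : X = (Subgroup.closure A).map (MulAut.conj m).toMonoidHom := by
        rw [MonoidHom.map_closure]; rfl
      rw [hX]
      exact (S.2.to_le ((closure_le _).mpr hA)).map _
    set H := normalizer (E : Set G) ⊓ M2
    have hSH : (S : Subgroup G) ≤ H := le_inf hSE le_sup_left
    obtain ⟨R, hR⟩ := (hXp.comap_of_injective H.subtype H.subtype_injective :
      IsPGroup p (X.subgroupOf H)).exists_le_sylow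
    obtain ⟨k, hk⟩ := MulAction.exists_smul_eq H R (S.subtype hSH)
    have hkA : ∀ a ∈ A, (k : G) * m * a * ((k : G) * m)⁻¹ ∈ (S : Subgroup G) := by
      intro a ha
      have h1 : (⟨m * a * m⁻¹, hXM (subset_closure ⟨a, ha, rfl⟩)⟩ : H) ∈ (R : Subgroup H) :=
        hR (subset_closure ⟨a, ha, rfl⟩ : m * a * m⁻¹ ∈ X)
      have h2 : k * ⟨m * a * m⁻¹, hXM (subset_closure ⟨a, ha, rfl⟩)⟩ * k⁻¹ ∈ (S.subtype hSH : Subgroup H) := by
        rw [← hk, Sylow.coe_subgroup_smul]
        exact ⟨_, h1, rfl⟩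
      have h3 : (k : G) * (m * a * m⁻¹) * (k : G)⁻¹ ∈ (S : Subgroup G) := h2
      convert h3 using 1
      group
    have h1 := sub _ hNE hSE A hA ((k : G) * m) (mul_mem k.2.1 hm) hkA
    have h2 := sub M2 hM2 le_sup_left ((fun a => (k : G) * m * a * ((k : G) * m)⁻¹) '' A)
      (by rintro _ ⟨a, ha, rfl⟩; exact hkA a ha) (c * (k : G)⁻¹)
      (mul_mem (mem_sup_right hc) (inv_mem k.2.2))
      (by
        rintro _ ⟨a, ha, rfl⟩
        have h3 := hg a ha
        rw [← hcm] at h3
        convert h3 using 1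
        group)
    have h4 := h1.trans h2 fun a ha => ⟨a, ha, rfl⟩
    rwa [show c * (k : G)⁻¹ * ((k : G) * m) = g by rw [← hcm]; group] at h4
  -- `G = S C(Q)`
  set π := QuotientGroup.mk' Q with hπdef
  have hπ : Function.Surjective π := QuotientGroup.mk'_surjective Q
  have hlt : Nat.card (G ⧸ Q) < Nat.card G := Core.card_quotient_lt hQ1
  set S' := S.mapSurjective hπ
  have hS' : (S' : Subgroup (G ⧸ Q)) = (S : Subgroup G).map π := Sylow.coe_mapSurjective hπ S
  set Z' := Fusion.zInter 0 (S' : Subgroup (G ⧸ Q)) with hZ'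
  set Y' := Y.map π ⊓ Z' with hY'
  have hYQ : ¬ Y ≤ Q := by
    intro h
    refine hnt (top_le_iff.mp ?_)
    rw [← hM2]
    exact sup_le hSN ((centralizer_le (SetLike.coe_subset_coe.mpr h)).trans
      (centralizer_le_normalizer _))
  have hYne : Y.map π ≠ ⊥ := fun h => hYQ fun x hx =>
    (QuotientGroup.eq_one_iff x).mp (mem_bot.mp (h ▸ mem_map_of_mem π hx))
  have hY'1 : Y' ≠ ⊥ := by
    have hle : Y.map π ≤ (S' : Subgroup (G ⧸ Q)) := hS' ▸ map_mono hYS
    have hn : ((Y.map π).subgroupOf (S' : Subgroup (G ⧸ Q))).Normal := by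
      refine (normal_subgroupOf_iff_le_normalizer hle).mpr ?_
      rw [hS']
      exact (map_mono hSN).trans (le_normalizer_map π)
    have := (S'.2 : IsPGroup p (S' : Subgroup (G ⧸ Q))).isNilpotent
    intro h
    refine Core.inf_center_ne_bot (N := (Y.map π).subgroupOf (S' : Subgroup (G ⧸ Q))) ?_ ?_
    · rw [Ne, Subgroup.subgroupOf_eq_bot]
      exact fun hd => hYne (by rw [eq_bot_iff, ← hd.eq_bot]; exact le_inf le_rfl hle)
    · rw [eq_bot_iff]
      rintro z ⟨hz1, hz2⟩
      refine Subtype.ext (mem_bot.mp (h ▸ (⟨hz1, mem_sInf.mpr fun B hB => ?_⟩ : (z : G ⧸ Q) ∈ Y')))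
      exact Fusion.mem_of_commute hB z.2 (pow_zero _) fun b hb =>
        congrArg Subtype.val (mem_center_iff.mp hz2 ⟨b, hB.le hb⟩)
  have normal_small : ∀ W : Subgroup (G ⧸ Q), W.Normal → W ≤ (S' : Subgroup (G ⧸ Q)) → W = ⊥ := by
    intro W hWn hWS
    refine le_bot_iff.mp fun y hy => ?_
    obtain ⟨x, rfl⟩ := hπ y
    refine mem_bot.mpr ((QuotientGroup.eq_one_iff x).mpr ?_)
    have hn : (W.comap π).Normal := hWn.comap π
    refine Core.le_pCore (N := W.comap π) (S.2.to_le fun w hw => ?_) hy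
    obtain ⟨s, hs, hse⟩ := (hS' ▸ hWS hw : π w ∈ (S : Subgroup G).map π)
    have h1 := mul_mem hs (hQS (QuotientGroup.eq.mp hse))
    rwa [mul_inv_cancel_left] at h1
  have hSY' : (S : Subgroup G).map π ≤ normalizer (Y' : Set (G ⧸ Q)) := by
    intro s hs
    refine le_normalizer_inf ((map_mono hSN).trans (le_normalizer_map π) hs) ?_
    exact sylow_le_normalizer_zInter _ (le_normalizer (hS'.ge hs))
  set M4 := (normalizer (Y' : Set (G ⧸ Q))).comap π
  have hSM4 : (S : Subgroup G) ≤ M4 := fun s hs => hSY' (mem_map_of_mem π hs)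
  have hM4 : M4 ≠ ⊤ := by
    intro h
    refine hY'1 (normal_small _ (normalizer_eq_top_iff.mp (top_le_iff.mp fun y _ => ?_)) ?_)
    · obtain ⟨x, rfl⟩ := hπ y
      exact h.ge (mem_top x)
    · exact inf_le_right.trans (Fusion.zInter_le 0 _)
  have hN' : normalizer (Z' : Set (G ⧸ Q)) ≤ normalizer (Y' : Set (G ⧸ Q)) := by
    intro n' hn'
    obtain ⟨n, rfl⟩ := hπ n'
    set M3 := (normalizer (Z' : Set (G ⧸ Q))).comap π with hM3
    have hSM3 : (S : Subgroup G) ≤ M3 := fun s hs =>
      sylow_le_normalizer_zInter _ (le_normalizer (hS'.ge (mem_map_of_mem π hs)))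
    have hZne : Z' ≠ ⊥ := fun h => hY'1 (le_bot_iff.mp (inf_le_right.trans h.le))
    have hM3' : M3 ≠ ⊤ := by
      intro h
      refine hZne (normal_small _ (normalizer_eq_top_iff.mp (top_le_iff.mp fun y _ => ?_))
        (Fusion.zInter_le 0 _))
      obtain ⟨x, rfl⟩ := hπ y
      exact h.ge (mem_top x)
    set W := (S : Subgroup G) ⊓ Z'.comap π
    have hnW : ∀ w ∈ W, n * w * n⁻¹ ∈ W := by
      intro w hw
      have h1 : π (n * w * n⁻¹) ∈ Z' := by
        rw [map_mul, map_mul, map_inv]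
        exact (mem_normalizer_iff.mp hn' (π w)).mp hw.2
      refine ⟨?_, h1⟩
      obtain ⟨s, hs, hse⟩ := (hS' ▸ Fusion.zInter_le 0 _ h1 :
        π (n * w * n⁻¹) ∈ (S : Subgroup G).map π)
      have h2 := mul_mem hs (hQS (QuotientGroup.eq.mp hse))
      rwa [mul_inv_cancel_left] at h2
    obtain ⟨y, hy, hye⟩ := sub M3 hM3' hSM3 (W : Set G) (fun w hw => hw.1) n hn'
      fun w hw => (hnW w hw).1
    refine mem_normalizer_of_conj ?_
    rintro _ ⟨⟨z, hz, rfl⟩, hz'⟩
    refine ⟨⟨n * z * n⁻¹, ?_, by simp⟩, (mem_normalizer_iff.mp hn' _).mp hz'⟩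
    rw [hye z ⟨hYS hz, hz'⟩]
    exact (mem_normalizer_iff.mp hy z).mp hz
  have hW' : ¬ Wit p (S' : Subgroup (G ⧸ Q)) Y' := by
    rintro ⟨T', h', hT', hh', hd⟩
    obtain ⟨h, rfl⟩ := hπ h'
    have hd' := hd.comap π (Y₀ := Y) (by rw [MonoidHom.range_eq_top.mpr hπ]; exact le_top) inf_le_left
    have hTS : T'.comap π ≤ (S : Subgroup G) := by
      intro x hx
      obtain ⟨s, hs, hse⟩ := (hS' ▸ hT' hx : π x ∈ (S : Subgroup G).map π)
      have h2 := mul_mem hs (hQS (QuotientGroup.eq.mp hse))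
      rwa [mul_inv_cancel_left] at h2
    obtain ⟨y, hy, hye⟩ := sub M4 hM4 hSM4 (T'.comap π : Set G) (SetLike.coe_subset_coe.mpr hTS) h
      hh' fun b hb => hTS ((mem_normalizer_iff.mp hd'.1 b).mp hb)
    exact hW ⟨_, y, hTS, hy, hd'.congr hye⟩
  -- the links
  have hstep : ∀ U ∈ Control.fullSet p (S : Subgroup G), Q ≤ U →
      ∀ x ∈ normalizer (U : Set G), Acts M4 (U : Set G) x := by
    intro U hU hQU x hx
    obtain ⟨y', hy', hye⟩ := IH (G ⧸ Q) hlt S' Y' inf_le_right hN' hW' (U.map π : Set (G ⧸ Q))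
      (by rw [Sylow.coe_mapSurjective]; exact SetLike.coe_subset_coe.mpr (map_mono hU.1)) (π x)
      (by
        rintro _ ⟨a, ha, rfl⟩
        rw [Sylow.coe_mapSurjective, ← map_inv, ← map_mul, ← map_mul]
        exact mem_map_of_mem π (hU.1 ((mem_normalizer_iff.mp hx a).mp ha)))
    obtain ⟨y, rfl⟩ := hπ y'
    set w := y⁻¹ * x with hwdef
    have hmod : ∀ a ∈ U, w * a * w⁻¹ * a⁻¹ ∈ Q := by
      intro a ha
      refine (QuotientGroup.eq_one_iff _).mp ?_
      show π _ = 1
      have h1 := hye (π a) (mem_map_of_mem π ha)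
      rw [hwdef]
      simp only [map_mul, map_inv, mul_inv_rev, inv_inv]
      calc (π y)⁻¹ * π x * π a * ((π x)⁻¹ * π y) * (π a)⁻¹
          = (π y)⁻¹ * (π x * π a * (π x)⁻¹) * π y * (π a)⁻¹ := by group
        _ = 1 := by rw [h1]; group
    have hwN : w ∈ normalizer (U : Set G) := mem_normalizer_of_conj fun a ha => by
      simpa using mul_mem (hQU (hmod a ha)) ha
    set N := normalizer (U : Set G) with hN
    let K : Subgroup N :=
      { carrier := {v | ∀ a ∈ U, (v : G) * a * (v : G)⁻¹ * a⁻¹ ∈ Q}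
        one_mem' := fun a _ => by simp
        mul_mem' := fun {v v'} hv hv' a ha => by
          have h1 : (v' : G) * a * (v' : G)⁻¹ ∈ U := (mem_normalizer_iff.mp v'.2 a).mp ha
          have h2 := mul_mem (hv _ h1) (hv' a ha)
          rw [Subgroup.coe_mul]
          convert h2 using 1
          group
        inv_mem' := fun {v} hv a ha => by
          have h1 : (v : G)⁻¹ * a * (v : G) ∈ U := (mem_normalizer_iff''.mp v.2 a).mp ha
          have h2 := inv_mem (hv _ h1)
          rw [InvMemClass.coe_inv]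
          convert h2 using 1
          group }
    have hKn : K.Normal := ⟨fun v hv n a ha => by
      have h1 : (n : G)⁻¹ * a * (n : G) ∈ U := (mem_normalizer_iff''.mp n.2 a).mp ha
      have h2 := (inferInstance : Q.Normal).conj_mem _ (hv _ h1) (n : G)
      rw [Subgroup.coe_mul, Subgroup.coe_mul, InvMemClass.coe_inv]
      convert h2 using 1
      group⟩
    obtain ⟨R, hR⟩ := Control.SylIn.exists_sylow (G := K)
      (T := ((((S : Subgroup G) ⊓ N).subgroupOf N) ⊓ K).subgroupOf K) (p := p)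
      (by
        have hTN : Control.SylIn p (((S : Subgroup G) ⊓ N).subgroupOf N) (⊤ : Subgroup N) :=
          ⟨le_top, S.2.to_inf_left.comap_subtype, by rw [relIndex_top_right]; exact hU.2⟩
        have h2 := hTN.inf_normal (N := K) le_top (fun g _ => normalizer_eq_top K ▸ mem_top g)
        exact ⟨le_top, h2.isPGroup.comap_subtype, by rw [relIndex_top_right]; exact h2.not_dvd⟩)
    obtain ⟨r, hr, v, hv, hrv⟩ := mem_sup_of_normal_right.mp
      ((Fusion.sylow_sup_pResidual R).ge (mem_top (⟨⟨w, hwN⟩, hmod⟩ : K)))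
    have hres : ∀ b : K, b ∈ Cfsg.pResidual p K → ((b : N) : G) ∈ centralizer (U : Set G) := by
      intro b hb
      rw [Cfsg.pResidual] at hb
      refine Subgroup.closure_induction (p := fun (b : K) _ => ((b : N) : G) ∈ centralizer (U : Set G))
        ?_ (one_mem _) (fun a b _ _ ha hb => mul_mem ha hb) (fun a _ ha => inv_mem ha) hb
      intro b hb
      have hb' : (orderOf ((b : N) : G)).Coprime p := by rwa [Subgroup.orderOf_coe, Subgroup.orderOf_coe]
      rw [mem_centralizer_iff]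
      exact fun a ha => (commute_of_stable Core.pCore_isPGroup hb'
        (commute_of_coprime S.2 hM2 hb') (b.2 a ha)).eq.symm
    rw [hR] at hr
    have hrS : ((r : N) : G) ∈ (S : Subgroup G) := hr.1.1
    refine ⟨y * ((r : N) : G), mul_mem hy' (hSM4 hrS), fun a ha => ?_⟩
    have hw : w = ((r : N) : G) * ((v : N) : G) :=
      congrArg (fun b : K => ((b : N) : G)) hrv.symm
    have hva : ((v : N) : G) * a = a * ((v : N) : G) := (mem_centralizer_iff.mp (hres v hv) a ha).symm
    have hx' : x = y * (((r : N) : G) * ((v : N) : G)) := by rw [← hw, hwdef]; group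
    calc x * a * x⁻¹ = y * ((r : N) : G) * (((v : N) : G) * a) * ((v : N) : G)⁻¹ *
          ((r : N) : G)⁻¹ * y⁻¹ := by rw [hx']; group
      _ = _ := by rw [hva]; group
  have hch : Control.FamChain (Control.fullSet p (S : Subgroup G)) ((Q : Set G) ∪ A) g⁻¹ := by
    refine Control.famChain_of_subset S (Control.allFull_fullSet S) (Control.movers_fullSet S) ?_ ?_
    · exact Set.union_subset (SetLike.coe_subset_coe.mpr hQS) hA
    · rintro _ ⟨a, ha, rfl⟩
      rcases ha with ha | ha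
      · exact hQS (by simpa using (inferInstance : Q.Normal).conj_mem a ha g)
      · show g⁻¹⁻¹ * a * g⁻¹ ∈ (S : Subgroup G)
        rw [inv_inv]; exact hg a ha
  obtain ⟨y, hy, hye⟩ := acts_of_chain hstep hch Set.subset_union_left
  rw [inv_inv] at hye
  obtain ⟨y', hy', hye'⟩ := sub M4 hM4 hSM4 A hA y hy fun a ha => by
    rw [← hye a (Or.inr ha)]; exact hg a ha
  exact ⟨y', hy', fun a ha => (hye a (Or.inr ha)).trans (hye' a ha)⟩

end Cfsg.Agent.ZJFail
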