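import Cfsg.Agent.ZJFail.Local
import Cfsg.Agent.ZJFail.Reduce
import Cfsg.Agent.ZJFail.Final

/-!
# Failure of `Z(J(S))` to control fusion yields a witness
-/

set_option autoImplicit false

namespace Cfsg.Agent.ZJFail

open Subgroup
open Cfsg.Agent
open Cfsg.Agent.QdFree.ZJControl (Acts)

universe u

variable {p : ℕ} [hp : Fact p.Prime]

/-- Without a witness `N(Y)` controls fusion. -/
theorem main (h2 : p ≠ 2) : ∀ (G : Type u) [Group G] [Finite G], Main p G := by
  intro G _ _
  induction hn : Nat.card G using Nat.strong_induction_on generalizing G with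
  | _ n IHn =>
  subst hn
  have IH : Smaller p G := fun H _ _ hlt => IHn _ hlt H rfl
  intro S Y hY hN hW A hA g hg
  by_cases hnt : normalizer (Y : Set G) = ⊤
  · exact ⟨g, hnt ▸ mem_top g, fun _ _ => rfl⟩
  rcases eq_or_ne (Cfsg.pCore p G) ⊥ with hQ | hQ
  · refine acts_of_local IH S hY hN hW ?_ (fun V hV hV1 hVn => hV1 ?_) hA hg
    · rintro rfl
      exact hnt (normalizer_eq_top _)
    · have := normalizer_eq_top_iff.mp hVn
      exact le_bot_iff.mp (hQ ▸ Core.le_pCore (S.2.to_le hV))
  by_cases hc : (S : Subgroup G) ⊓ centralizer (Cfsg.pCore p G : Set G) ≤ Cfsg.pCore p G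
  · exact acts_of_centric IH h2 S hY hN hW hnt hc hA hg
  · exact acts_of_not_centric IH S hY hN hW hnt hQ hc hA hg

end Cfsg.Agent.ZJFail
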