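import Cfsg.Agent.QdFree.QdSylow
import Cfsg.Agent.QdFree.ZJControl

/-!
# Witnesses for the failure of `Z(J(S))` to control fusion

`Pre T h Y` : `T` maps onto the Sylow model of Qd(p), `h` normalises `T` and induces the torus,
and some element of `Y ∩ T` goes to a nontrivial central element.
`Wit S Y` : such data with `T ≤ S` and `h ∈ N(Y)`.
-/

set_option autoImplicit false

namespace Cfsg.Agent.ZJFail

open Subgroup
open Cfsg.Agent
open Cfsg.Agent.QdFree (Affine sylowModel mkT)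
open Cfsg.Agent.QdFree.ZJControl (Acts)

universe u v

variable {p : ℕ} [hp : Fact p.Prime]

/-- The diagonal torus of `SL₂(p)`. -/
def dia (ω : (ZMod p)ˣ) : Matrix.SpecialLinearGroup (Fin 2) (ZMod p) :=
  ⟨!![(ω : ZMod p), 0; 0, ((ω⁻¹ : (ZMod p)ˣ) : ZMod p)], by
    rw [Matrix.det_fin_two]
    show (ω : ZMod p) * ((ω⁻¹ : (ZMod p)ˣ) : ZMod p) - 0 * 0 = 1
    rw [mul_zero, sub_zero, ← Units.val_mul, mul_inv_cancel, Units.val_one]⟩

/-- The torus inside the affine group. -/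
def tor (ω : (ZMod p)ˣ) : Affine (ZMod p) := SemidirectProduct.inr (dia ω)

/-- Witness data on `T` and `h`. -/
structure Data (G : Type u) [Group G] (T : Subgroup G) (h : G) (Y : Subgroup G) : Type u where
  f : T →* Affine (ZMod p)
  range_eq : f.range = sylowModel p
  w : (ZMod p)ˣ
  order_w : orderOf w = p - 1
  conj_eq : ∀ x y : T, (y : G) = h * x * h⁻¹ → f y = tor w * f x * (tor w)⁻¹
  pt : T
  pt_mem : (pt : G) ∈ Y
  c : ZMod p
  c_ne : c ≠ 0
  f_pt : f pt = mkT c 0 0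

variable {G : Type u} [Group G]

/-- `h` normalises `T` and carries witness data. -/
def Pre (p : ℕ) [Fact p.Prime] (T : Subgroup G) (h : G) (Y : Subgroup G) : Prop :=
  h ∈ normalizer (T : Set G) ∧ Nonempty (Data (p := p) G T h Y)

/-- A witness in `S` for `N(Y)`. -/
def Wit (p : ℕ) [Fact p.Prime] (S Y : Subgroup G) : Prop :=
  ∃ (T : Subgroup G) (h : G), T ≤ S ∧ h ∈ normalizer (Y : Set G) ∧ Pre p T h Y

theorem Pre.mono {T Y Y' : Subgroup G} {h : G} (hd : Pre p T h Y) (hY : Y ≤ Y') : Pre p T h Y' := by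
  obtain ⟨hn, ⟨d⟩⟩ := hd
  exact ⟨hn, ⟨⟨d.f, d.range_eq, d.w, d.order_w, d.conj_eq, d.pt, hY d.pt_mem, d.c, d.c_ne, d.f_pt⟩⟩⟩

theorem Pre.congr [Finite G] {T Y : Subgroup G} {h h' : G} (hd : Pre p T h Y)
    (he : ∀ a ∈ T, h * a * h⁻¹ = h' * a * h'⁻¹) : Pre p T h' Y := by
  obtain ⟨hn, ⟨d⟩⟩ := hd
  refine ⟨QdFree.ZJControl.mem_normalizer_of_conj fun a ha => ?_,
    ⟨⟨d.f, d.range_eq, d.w, d.order_w, fun x y hxy => d.conj_eq x y ?_, d.pt, d.pt_mem, d.c,
      d.c_ne, d.f_pt⟩⟩⟩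
  · rw [← he a ha]
    exact (mem_normalizer_iff.mp hn a).mp ha
  · rw [hxy, he _ x.2]

/-- Pulling back along a homomorphism. -/
theorem Pre.comap {H : Type v} [Group H] (φ : G →* H) {T Y : Subgroup H} {h : G}
    {Y₀ : Subgroup G} (hd : Pre p T (φ h) Y) (hT : T ≤ φ.range) (hY : Y ≤ Y₀.map φ) :
    Pre p (T.comap φ) h Y₀ := by
  obtain ⟨hn, ⟨d⟩⟩ := hd
  obtain ⟨v₀, hv₀, hv⟩ := hY d.pt_mem
  let ψ : T.comap φ →* T := φ.subgroupComap T
  have hψ : Function.Surjective ψ := fun t => by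
    obtain ⟨x, hx⟩ := hT t.2
    exact ⟨⟨x, show φ x ∈ T from hx ▸ t.2⟩, Subtype.ext hx⟩
  refine ⟨mem_normalizer_iff.mpr fun a => ?_, ⟨⟨d.f.comp ψ, ?_, d.w, d.order_w, ?_,
    ⟨v₀, show φ v₀ ∈ T from hv ▸ d.pt.2⟩, hv₀, d.c, d.c_ne, ?_⟩⟩⟩
  · rw [mem_comap, mem_comap, map_mul, map_mul, map_inv]
    exact mem_normalizer_iff.mp hn (φ a)
  · rw [MonoidHom.range_comp, MonoidHom.range_eq_top.mpr hψ, ← MonoidHom.range_eq_map, d.range_eq]
  · intro x y hxy
    refine d.conj_eq (ψ x) (ψ y) ?_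
    show φ y = φ h * φ x * (φ h)⁻¹
    rw [hxy, map_mul, map_mul, map_inv]
  · exact (congrArg d.f (Subtype.ext hv)).trans d.f_pt

/-- Pushing forward along an injective homomorphism. -/
theorem Pre.map {H : Type v} [Group H] [Finite H] {φ : G →* H} (hφ : Function.Injective φ)
    {T Y : Subgroup G} {h : G} (hd : Pre p T h Y) : Pre p (T.map φ) (φ h) (Y.map φ) := by
  obtain ⟨hn, ⟨d⟩⟩ := hd
  let e : T ≃* T.map φ := T.equivMapOfInjective φ hφ
  have he : ∀ x : T.map φ, φ (e.symm x : G) = x := fun x =>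
    congrArg Subtype.val (e.apply_symm_apply x)
  refine ⟨QdFree.ZJControl.mem_normalizer_of_conj ?_, ⟨⟨d.f.comp e.symm.toMonoidHom, ?_, d.w,
    d.order_w, ?_, e d.pt, mem_map_of_mem φ d.pt_mem, d.c, d.c_ne, ?_⟩⟩⟩
  · rintro _ ⟨a, ha, rfl⟩
    exact ⟨h * a * h⁻¹, (mem_normalizer_iff.mp hn a).mp ha, by simp⟩
  · rw [MonoidHom.range_comp, MonoidHom.range_eq_top.mpr e.symm.surjective,
      ← MonoidHom.range_eq_map, d.range_eq]
  · intro x y hxy
    refine d.conj_eq (e.symm x) (e.symm y) (hφ ?_)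
    rw [he, map_mul, map_mul, map_inv, he, hxy]
  · simp only [MonoidHom.comp_apply, MulEquiv.coe_toMonoidHom, MulEquiv.symm_apply_apply]
    exact d.f_pt

/-- The statement proved by induction on the order of the group. -/
def Main (p : ℕ) [Fact p.Prime] (G : Type u) [Group G] : Prop :=
  ∀ (S : Sylow p G) (Y : Subgroup G), Y ≤ Fusion.zInter 0 (S : Subgroup G) →
    normalizer (Fusion.zInter 0 (S : Subgroup G) : Set G) ≤ normalizer (Y : Set G) →
    ¬ Wit p (S : Subgroup G) Y → ∀ A : Set G, A ⊆ (S : Subgroup G) → ∀ g : G,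
      (∀ a ∈ A, g * a * g⁻¹ ∈ (S : Subgroup G)) → Acts (normalizer (Y : Set G)) A g

/-- The induction hypothesis. -/
def Smaller (p : ℕ) [Fact p.Prime] (G : Type u) [Group G] : Prop :=
  ∀ (H : Type u) [Group H] [Finite H], Nat.card H < Nat.card G → Main p H

variable [Finite G]

omit hp in
theorem le_normalizer_inf {R Y : Subgroup G} {g : G} (h1 : g ∈ normalizer (R : Set G))
    (h2 : g ∈ normalizer (Y : Set G)) : g ∈ normalizer ((R ⊓ Y : Subgroup G) : Set G) := by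
  rw [mem_normalizer_iff]
  exact fun x => and_congr (mem_normalizer_iff.mp h1 x) (mem_normalizer_iff.mp h2 x)

/-- The induction hypothesis applied inside a proper subgroup `M` with Sylow subgroup `R`. -/
theorem acts_in (IH : Smaller p G) {M R Y : Subgroup G} (hM : M ≠ ⊤) (hR : Control.SylIn p R M)
    (hY : Y ≤ Fusion.zInter 0 R)
    (hN : ∀ x ∈ M, x ∈ normalizer (Fusion.zInter 0 R : Set G) → x ∈ normalizer (Y : Set G))
    (hW : ∀ T h, T ≤ R → h ∈ M → h ∈ normalizer (Y : Set G) → ¬ Pre p T h Y)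
    {B : Set G} (hB : B ⊆ R) {x : G} (hx : x ∈ M) (hxB : ∀ b ∈ B, x * b * x⁻¹ ∈ R) :
    Acts (M ⊓ normalizer (Y : Set G)) B x := by
  have hlt : Nat.card M < Nat.card G :=
    lt_of_le_of_ne (Nat.le_of_dvd Nat.card_pos (card_subgroup_dvd_card M))
      fun h => hM (eq_top_of_card_eq M h)
  obtain ⟨P, hP⟩ := Control.SylIn.exists_sylow (G := M) (T := R.subgroupOf M)
    ⟨le_top, hR.isPGroup.comap_subtype, by rw [relIndex_top_right]; exact hR.not_dvd⟩
  have hRm : (R.subgroupOf M).map M.subtype = R := map_subgroupOf_eq_of_le hR.le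
  have hYM : Y ≤ M := (hY.trans (Fusion.zInter_le 0 R)).trans hR.le
  have hYm : (Y.subgroupOf M).map M.subtype = Y := map_subgroupOf_eq_of_le hYM
  have hZm : (Fusion.zInter 0 (R.subgroupOf M)).map M.subtype = Fusion.zInter 0 R := by
    rw [Fusion.zInter_map M.subtype_injective, hRm]
  have hYN : ∀ y : M, (y : G) ∈ normalizer (Y : Set G) ↔ y ∈ normalizer (Y.subgroupOf M : Set M) := by
    intro y
    refine ⟨fun hy => mem_normalizer_iff.mpr fun z => mem_normalizer_iff.mp hy (z : G), fun hy => ?_⟩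
    rw [← hYm]
    exact le_normalizer_map M.subtype ⟨y, hy, rfl⟩
  have h1 : Y.subgroupOf M ≤ Fusion.zInter 0 (P : Subgroup M) := by
    rw [hP, ← map_le_map_iff_of_injective M.subtype_injective, hYm, hZm]; exact hY
  have h2 : normalizer (Fusion.zInter 0 (P : Subgroup M) : Set M) ≤
      normalizer (Y.subgroupOf M : Set M) := by
    intro y hy
    refine (hYN y).mp (hN y y.2 ?_)
    rw [← hZm, ← hP]
    exact le_normalizer_map M.subtype ⟨y, hy, rfl⟩
  have h3 : ¬ Wit p (P : Subgroup M) (Y.subgroupOf M) := by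
    rintro ⟨T, h, hT, hh, hd⟩
    have hd' := hd.map M.subtype_injective
    rw [hYm] at hd'
    refine hW (T.map M.subtype) h ?_ h.2 ((hYN h).mpr hh) hd'
    rw [← hRm, ← hP]
    exact map_mono hT
  obtain ⟨y, hy, hye⟩ := IH M hlt P _ h1 h2 h3 {b : M | (b : G) ∈ B}
    (fun b hb => hP.ge (show b ∈ R.subgroupOf M from hB hb)) ⟨x, hx⟩
    (fun b hb => hP.ge (show _ ∈ R.subgroupOf M from hxB _ hb))
  exact ⟨y, ⟨y.2, (hYN y).mpr hy⟩, fun b hb => congrArg Subtype.val (hye ⟨b, hR.le (hB hb)⟩ hb)⟩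

/-- Proper subgroups containing the Sylow subgroup. -/
theorem acts_sub (IH : Smaller p G) (S : Sylow p G) {Y : Subgroup G}
    (hY : Y ≤ Fusion.zInter 0 (S : Subgroup G))
    (hN : normalizer (Fusion.zInter 0 (S : Subgroup G) : Set G) ≤ normalizer (Y : Set G))
    (hW : ¬ Wit p (S : Subgroup G) Y) {M : Subgroup G} (hM : M ≠ ⊤) (hSM : (S : Subgroup G) ≤ M)
    {B : Set G} (hB : B ⊆ (S : Subgroup G)) {x : G} (hx : x ∈ M)
    (hxB : ∀ b ∈ B, x * b * x⁻¹ ∈ (S : Subgroup G)) : Acts (normalizer (Y : Set G)) B x := by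
  obtain ⟨y, hy, hye⟩ := acts_in IH hM ((Control.sylIn_top S).mono hSM le_top) hY
    (fun z _ hz => hN hz) (fun T h hT _ hh hd => hW ⟨T, h, hT, hh, hd⟩) hB hx hxB
  exact ⟨y, hy.2, hye⟩

theorem sylow_le_normalizer_zInter (S : Subgroup G) :
    normalizer (S : Set G) ≤ normalizer (Fusion.zInter 0 S : Set G) := fun _ hg =>
  Fusion.mem_normalizer_zInter hg

end Cfsg.Agent.ZJFail
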