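import Cfsg.Agent.Fusion.Transfer
import Cfsg.Agent.Control.Basic
import Cfsg.Agent.QdFree.ZJControl

/-!
# A pair of `p`-elements deep inside and outside a subgroup containing a Sylow subgroup

`exists_deep` : `D` a normal set of `p`-elements not inside `M ⊇ S`, with `N(⟨D ∩ S⟩) ≤ M`.
There are a `p`-subgroup `R` and `a ∈ M`, `b ∉ M` in `D` normalising `R`, generating a group that is
not a `p`-group, such that normalizers of `p`-subgroups over `R ∪ {a}` lie in `M`.
-/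

set_option autoImplicit false

namespace Cfsg.Agent.ZJFail

open Subgroup
open Cfsg.Agent
open Cfsg.Agent.Control (cjSub mem_cjSub)

variable {H : Type*} [Group H] [Finite H] {p : ℕ} [Fact p.Prime]

omit [Fact p.Prime] in
theorem exists_gen_normalizing {D : Set H} (hD : ∀ d ∈ D, ∀ g : H, g * d * g⁻¹ ∈ D)
    {P : Subgroup H} (hP : IsPGroup p P) {E : Set H} (hE : E ⊆ D ∩ P) [Fact p.Prime]
    (hne : ∃ d ∈ D, d ∈ P ∧ d ∉ closure E) :
    ∃ d ∈ D, d ∈ P ∧ d ∈ normalizer (closure E : Set H) ∧ d ∉ closure E := by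
  set R := closure E
  have hRP : R ≤ P := (closure_le _).mpr fun e he => (hE he).2
  by_cases hN : P ≤ normalizer (R : Set H)
  · obtain ⟨d, hd, hdP, hdR⟩ := hne
    exact ⟨d, hd, hdP, hN hdP, hdR⟩
  have hlt : P ⊓ normalizer (R : Set H) < P :=
    lt_of_le_of_ne inf_le_left fun h => hN (h ▸ inf_le_right)
  obtain ⟨u, ⟨huP, huN⟩, hu⟩ := SetLike.exists_of_lt (Fusion.lt_inf_normalizer_of_isPGroup hP hlt)
  have hu' : u ∉ normalizer (R : Set H) := fun h => hu ⟨huP, h⟩
  obtain ⟨e, he, hue⟩ : ∃ e ∈ E, u * e * u⁻¹ ∉ R := by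
    by_contra hc
    push Not at hc
    refine hu' (QdFree.ZJControl.mem_normalizer_of_conj fun x hx => ?_)
    have hle : R ≤ R.comap (MulAut.conj u).toMonoidHom := (closure_le _).mpr fun e he => hc e he
    exact hle hx
  have h1 : e ∈ P ⊓ normalizer (R : Set H) :=
    ⟨(hE he).2, le_normalizer (subset_closure he)⟩
  exact ⟨_, hD _ (hE he).1 u, mul_mem (mul_mem huP (hE he).2) (inv_mem huP),
    ((mem_normalizer_iff.mp huN e).mp h1).2, hue⟩

/-- The conclusion of `exists_deep`. -/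
structure Deep (p : ℕ) (M : Subgroup H) (D : Set H) (R : Subgroup H) (a b : H) : Prop where
  isPGroup : IsPGroup p R
  a_mem : a ∈ D
  a_in : a ∈ M
  a_norm : a ∈ normalizer (R : Set H)
  a_not : a ∉ R
  b_mem : b ∈ D
  b_norm : b ∈ normalizer (R : Set H)
  b_out : b ∉ M
  not_pGroup : ¬ IsPGroup p (closure ({a, b} : Set H))
  mem : ∀ P : Subgroup H, IsPGroup p P → R ≤ P → a ∈ P → ∀ x ∈ normalizer (P : Set H), x ∈ M
  conj : ∀ x ∈ normalizer (R : Set H), x * a * x⁻¹ ∈ M → x ∈ M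

/-- The deep pair. -/
theorem exists_deep (S : Sylow p H) {M : Subgroup H} (hSM : (S : Subgroup H) ≤ M) {D : Set H}
    (hD : ∀ d ∈ D, ∀ g : H, g * d * g⁻¹ ∈ D) (hDp : ∀ d ∈ D, IsPGroup p (zpowers d))
    (hN : normalizer (closure (D ∩ (S : Subgroup H) : Set H) : Set H) ≤ M)
    (hbad : ∃ d ∈ D, d ∉ M) : ∃ (R : Subgroup H) (a b : H), Deep p M D R a b := by
  obtain ⟨P, ⟨hP, d₀, hd₀, hd₀P, hd₀M⟩, hmax⟩ :=
    (Set.toFinite {P : Subgroup H | IsPGroup p P ∧ ∃ d ∈ D, d ∈ P ∧ d ∉ M}).exists_maximalFor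
      (fun P : Subgroup H => (D ∩ (P : Set H) ∩ (M : Set H)).ncard) _ (by
        obtain ⟨d, hd, hdM⟩ := hbad
        exact ⟨zpowers d, hDp d hd, d, hd, mem_zpowers d, hdM⟩)
  set E := D ∩ (P : Set H) ∩ (M : Set H) with hE
  set R := closure E with hR
  have hEP : E ⊆ D ∩ P := fun e he => he.1
  have hRP : R ≤ P := (closure_le _).mpr fun e he => he.1.2
  have hRM : R ≤ M := (closure_le _).mpr fun e he => he.2
  have hRp : IsPGroup p R := hP.to_le hRP
  -- maximality
  have max : ∀ P' : Subgroup H, IsPGroup p P' → R ≤ P' → ∀ a' ∈ D, a' ∈ M → a' ∈ P' → a' ∉ R →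
      ∀ d ∈ D, d ∈ P' → d ∈ M := by
    intro P' hP' hRP' a' ha' haM haP haR d hd hdP
    by_contra hdM
    have hlt : E.ncard < (D ∩ (P' : Set H) ∩ (M : Set H)).ncard := by
      refine Set.ncard_lt_ncard (Set.ssubset_iff_exists.mpr
        ⟨fun e he => ⟨⟨he.1.1, hRP' (subset_closure he)⟩, he.2⟩, a', ⟨⟨ha', haP⟩, haM⟩,
          fun h => haR (subset_closure h)⟩) (Set.toFinite _)
    exact hlt.not_ge (hmax ⟨hP', d, hd, hdP, hdM⟩ hlt.le)
  -- conjugates of the Sylow subgroups of `M`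
  have conjInto : ∀ Q : Subgroup H, IsPGroup p Q → Q ≤ M →
      ∃ m ∈ M, cjSub m Q ≤ (S : Subgroup H) := fun Q hQ hQM =>
    ((Control.sylIn_top S).mono hSM le_top).exists_cjSub_le hQ hQM
  have deep : ∀ (m x : H), m ∈ M →
      (∀ d ∈ D, d ∈ cjSub (x * m⁻¹) (S : Subgroup H) → d ∈ M) → x ∈ M := by
    intro m x hm hx
    set P₂ := closure (D ∩ (cjSub (x * m⁻¹) (S : Subgroup H) : Set H))
    obtain ⟨m', hm', hle⟩ := conjInto P₂
      ((S.2.map _).to_le ((closure_le _).mpr fun d hd => hd.2))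
      ((closure_le _).mpr fun d hd => hx d hd.1 hd.2)
    set g := m' * (x * m⁻¹)
    have hg : g ∈ M := by
      refine hN (QdFree.ZJControl.mem_normalizer_of_conj fun y hy => ?_)
      have hle' : closure (D ∩ (S : Subgroup H) : Set H) ≤
          (closure (D ∩ (S : Subgroup H) : Set H)).comap (MulAut.conj g).toMonoidHom := by
        rw [closure_le]
        rintro e ⟨he, heS⟩
        refine subset_closure ⟨hD e he g, ?_⟩
        refine hle (mem_cjSub.mpr (subset_closure ⟨?_, ?_⟩))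
        · simpa [g, mul_assoc] using hD e he (x * m⁻¹)
        · rw [SetLike.mem_coe, mem_cjSub]
          show (x * m⁻¹)⁻¹ * (m'⁻¹ * (g * e * g⁻¹) * m') * (x * m⁻¹) ∈ (S : Subgroup H)
          have heq : (x * m⁻¹)⁻¹ * (m'⁻¹ * (g * e * g⁻¹) * m') * (x * m⁻¹) = e := by
            simp only [g]; group
          rw [heq]; exact heS
      exact hle' hy
    have hxe : x = m'⁻¹ * g * m := by simp only [g]; group
    rw [hxe]
    exact mul_mem (mul_mem (inv_mem hm') hg) hm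
  have mem' : ∀ P' : Subgroup H, IsPGroup p P' → R ≤ P' → ∀ a' ∈ D, a' ∈ M → a' ∈ P' → a' ∉ R →
      ∀ x, (x ∈ normalizer (R : Set H) ∧ x * a' * x⁻¹ ∈ M ∨ x ∈ normalizer (P' : Set H)) → x ∈ M := by
    intro P' hP' hRP' a' ha' haM haP haR x hx
    set P'' := closure (D ∩ (P' : Set H))
    have hP''P : P'' ≤ P' := (closure_le _).mpr fun d hd => hd.2
    have hP''M : P'' ≤ M :=
      (closure_le _).mpr fun d hd => max P' hP' hRP' a' ha' haM haP haR d hd.1 hd.2
    have hRP'' : R ≤ P'' :=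
      (closure_le _).mpr fun e he => subset_closure ⟨he.1.1, hRP' (subset_closure he)⟩
    obtain ⟨m, hm, hle⟩ := conjInto P'' (hP'.to_le hP''P) hP''M
    have hin : ∀ y ∈ P'', x * y * x⁻¹ ∈ cjSub (x * m⁻¹) (S : Subgroup H) := by
      intro y hy
      rw [mem_cjSub]
      have := hle (mem_cjSub.mpr (by rwa [show m⁻¹ * (m * y * m⁻¹) * m = y by group]) :
        m * y * m⁻¹ ∈ cjSub m P'')
      convert this using 1
      group
    refine deep m x hm fun d hd hdP => ?_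
    have hPp : IsPGroup p (cjSub (x * m⁻¹) (S : Subgroup H)) := S.2.map _
    rcases hx with ⟨hxR, hxa⟩ | hxP
    · refine max _ hPp (fun r hr => ?_) _ (hD a' ha' x) hxa (hin _ (subset_closure ⟨ha', haP⟩))
        (fun h => haR ((mem_normalizer_iff.mp hxR a').mpr h)) d hd hdP
      have := hin _ (hRP'' ((mem_normalizer_iff''.mp hxR r).mp hr))
      rwa [show x * (x⁻¹ * r * x) * x⁻¹ = r by group] at this
    · have hback : ∀ y ∈ D, y ∈ P' → y ∈ cjSub (x * m⁻¹) (S : Subgroup H) := fun y hy hyP => by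
        have h1 : x⁻¹ * y * x ∈ P' := (mem_normalizer_iff''.mp hxP y).mp hyP
        have h2 := hin _ (subset_closure ⟨by simpa using hD y hy x⁻¹, h1⟩)
        rwa [show x * (x⁻¹ * y * x) * x⁻¹ = y by group] at h2
      exact max _ hPp ((closure_le _).mpr fun e he => hback e he.1.1 (hRP' (subset_closure he))) a' ha'
        haM (hback a' ha' haP) haR d hd hdP
  -- `b`
  obtain ⟨b, hb, hbP, hbN, hbR⟩ := exists_gen_normalizing hD hP hEP
    ⟨d₀, hd₀, hd₀P, fun h => hd₀M (hRM h)⟩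
  have hbM : b ∉ M := fun h => hbR (subset_closure ⟨⟨hb, hbP⟩, h⟩)
  -- `a`
  obtain ⟨m, hm, hle⟩ := conjInto R hRp hRM
  set P₁ := cjSub m⁻¹ (S : Subgroup H) with hP₁
  have hRP₁ : R ≤ P₁ := fun r hr => by
    rw [hP₁, mem_cjSub, inv_inv]
    exact hle (mem_cjSub.mpr (by rwa [show m⁻¹ * (m * r * m⁻¹) * m = r by group]))
  have hP₁M : P₁ ≤ M := fun y hy => by
    rw [hP₁, mem_cjSub, inv_inv] at hy
    have h := mul_mem (mul_mem (inv_mem hm) (hSM hy)) hm
    rwa [show m⁻¹ * (m * y * m⁻¹) * m = y by group] at h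
  obtain ⟨a, ha, haP, haN, haR⟩ := exists_gen_normalizing hD (P := P₁) (S.2.map _)
      (fun e he => ⟨he.1.1, hRP₁ (subset_closure he)⟩) (E := E) (by
    by_contra hc
    push Not at hc
    obtain ⟨g, hg⟩ := hP.exists_le_sylow.imp fun Q hQ => hQ
    obtain ⟨c, hc'⟩ := MulAction.exists_smul_eq H g S
    have h1 : (D ∩ (P : Set H)).ncard ≤ (D ∩ ((S : Subgroup H) : Set H)).ncard := by
      refine Set.ncard_le_ncard_of_injOn (fun d => c * d * c⁻¹) (fun d hd => ⟨hD d hd.1 c, ?_⟩)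
        (fun x _ y _ h => by simpa using h) (Set.toFinite _)
      rw [← hc']
      exact ⟨d, hg hd.2, rfl⟩
    have h2 : (D ∩ ((S : Subgroup H) : Set H)).ncard ≤ E.ncard := by
      refine Set.ncard_le_ncard_of_injOn (fun d => m⁻¹ * d * m) (fun d hd => ?_)
        (fun x _ y _ h => by simpa using h) (Set.toFinite _)
      have h3 : m⁻¹ * d * m ∈ D := by simpa using hD d hd.1 m⁻¹
      have h4 : m⁻¹ * d * m ∈ P₁ := by
        rw [hP₁, mem_cjSub, inv_inv, show m * (m⁻¹ * d * m) * m⁻¹ = d by group]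
        exact hd.2
      exact ⟨⟨h3, hRP (hc _ h3 h4)⟩, hP₁M h4⟩
    have h5 : E.ncard < (D ∩ (P : Set H)).ncard :=
      Set.ncard_lt_ncard (Set.ssubset_iff_exists.mpr
        ⟨fun e he => he.1, d₀, ⟨hd₀, hd₀P⟩, fun h => hd₀M h.2⟩) (Set.toFinite _)
    omega)
  have haM : a ∈ M := hP₁M haP
  have hRa : IsPGroup p (zpowers a ⊔ R : Subgroup H) :=
    (hDp a ha).to_sup_of_normal_right' hRp (zpowers_le.mpr haN)
  refine ⟨R, a, b, ⟨hRp, ha, haM, haN, haR, hb, hbN, hbM, fun hab => ?_, fun P' hP' hR' ha' x hx =>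
    mem' P' hP' hR' a ha haM ha' haR x (Or.inr hx), fun x hx hxa =>
    mem' _ hRa le_sup_right a ha haM (mem_sup_left (mem_zpowers a)) haR x (Or.inl ⟨hx, hxa⟩)⟩⟩
  have hK : closure ({a, b} : Set H) ≤ normalizer (R : Set H) := by
    rw [closure_le]
    rintro _ (rfl | hz)
    · exact haN
    · rw [Set.mem_singleton_iff] at hz; exact hz ▸ hbN
  exact hbM (max _ (hab.to_sup_of_normal_right' hRp hK) le_sup_right a ha haM
    (mem_sup_left (subset_closure (by simp))) haR b hb (mem_sup_left (subset_closure (by simp))))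

end Cfsg.Agent.ZJFail
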