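import Cfsg.Agent.ZJFail.Basic

/-!
# All local subgroups proper

If every normalizer of a nontrivial subgroup of `S` is proper, control in the local subgroups gives
control in the group.
-/

set_option autoImplicit false

namespace Cfsg.Agent.ZJFail

open Subgroup
open Cfsg.Agent
open Cfsg.Agent.QdFree.ZJControl (Acts)
open Cfsg.Agent.Control (cjSub SylIn)

universe u

variable {p : ℕ} [hp : Fact p.Prime] {G : Type u} [Group G] [Finite G]

omit [Finite G] in
theorem acts_inv {N : Subgroup G} {A : Set G} {g : G} (h : Acts N A g) :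
    Acts N ((fun a => g * a * g⁻¹) '' A) g⁻¹ := by
  obtain ⟨x, hx, hxe⟩ := h
  refine ⟨x⁻¹, inv_mem hx, ?_⟩
  rintro _ ⟨a, ha, rfl⟩
  show g⁻¹ * (g * a * g⁻¹) * g⁻¹⁻¹ = x⁻¹ * (g * a * g⁻¹) * x⁻¹⁻¹
  rw [show g⁻¹ * (g * a * g⁻¹) * g⁻¹⁻¹ = a by group, hxe a ha]
  group

omit [Finite G] in
theorem acts_mono {N : Subgroup G} {A B : Set G} {g : G} (h : Acts N A g) (hBA : B ⊆ A) :
    Acts N B g := by
  obtain ⟨x, hx, hxe⟩ := h
  exact ⟨x, hx, fun a ha => hxe a (hBA ha)⟩

/-- Composing along a chain. -/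
theorem acts_chain {N : Subgroup G} {𝒢 : Set (Subgroup G)}
    (hstep : ∀ U ∈ 𝒢, ∀ x ∈ normalizer (U : Set G), Acts N (U : Set G) x)
    {A : Set G} {g : G} (h : Control.FamChain 𝒢 A g) : Acts N A g⁻¹ := by
  induction h with
  | nil A => exact ⟨1, one_mem N, fun a _ => by simp⟩
  | @cons A g x U hU hA hx _ ih =>
    rw [mul_inv_rev]
    refine Acts.trans (acts_mono (hstep U hU x⁻¹ (inv_mem hx)) hA) ih fun a ha => ?_
    exact ⟨a, ha, by simp⟩

omit hp in
theorem acts_normalizer_of_eq {N : Subgroup G} {W : Subgroup G} {n : G}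
    (hn : n ∈ normalizer (W : Set G)) {Y : Subgroup G} (hN : N ≤ normalizer (Y : Set G))
    (h : Acts N (W : Set G) n) : ∀ z ∈ Y ⊓ W, n * z * n⁻¹ ∈ Y ⊓ W := by
  obtain ⟨y, hy, hye⟩ := h
  intro z hz
  refine ⟨?_, (mem_normalizer_iff.mp hn z).mp hz.2⟩
  rw [hye z hz.2]
  exact (mem_normalizer_iff.mp (hN hy) z).mp hz.1

/-- All local subgroups proper. -/
theorem acts_of_local (IH : Smaller p G) (S : Sylow p G) {Y : Subgroup G}
    (hY : Y ≤ Fusion.zInter 0 (S : Subgroup G))
    (hN : normalizer (Fusion.zInter 0 (S : Subgroup G) : Set G) ≤ normalizer (Y : Set G))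
    (hW : ¬ Wit p (S : Subgroup G) Y) (hY1 : Y ≠ ⊥)
    (hloc : ∀ V : Subgroup G, V ≤ (S : Subgroup G) → V ≠ ⊥ → normalizer (V : Set G) ≠ ⊤)
    {A : Set G} (hA : A ⊆ (S : Subgroup G)) {g : G}
    (hg : ∀ a ∈ A, g * a * g⁻¹ ∈ (S : Subgroup G)) : Acts (normalizer (Y : Set G)) A g := by
  set NY := normalizer (Y : Set G) with hNY
  have hSY : (S : Subgroup G) ≤ NY :=
    (le_normalizer.trans (sylow_le_normalizer_zInter _)).trans hN
  set ZS := Y ⊓ centralizer ((S : Subgroup G) : Set G) with hZS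
  have hYS : Y ≤ (S : Subgroup G) := hY.trans (Fusion.zInter_le 0 _)
  have hZS1 : ZS ≠ ⊥ := by
    intro h
    have hn : (Y.subgroupOf (S : Subgroup G)).Normal :=
      (normal_subgroupOf_iff_le_normalizer hYS).mpr hSY
    have := (S.2 : IsPGroup p (S : Subgroup G)).isNilpotent
    refine Core.inf_center_ne_bot (N := Y.subgroupOf (S : Subgroup G)) ?_ ?_
    · rw [Ne, Subgroup.subgroupOf_eq_bot]
      exact fun hd => hY1 (by rw [eq_bot_iff, ← hd.eq_bot]; exact le_inf le_rfl hYS)
    · rw [eq_bot_iff]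
      rintro z ⟨hz1, hz2⟩
      refine Subtype.ext (mem_bot.mp (h ▸ (⟨hz1, mem_centralizer_iff.mpr fun s hs => ?_⟩ : (z : G) ∈ ZS)))
      exact congrArg Subtype.val (mem_center_iff.mp hz2 ⟨s, hs⟩)
  suffices key : ∀ k : ℕ, 2 ≤ k →
      (∀ U : Subgroup G, U ≤ (S : Subgroup G) → k ≤ Nat.card U → ∀ g : G,
        cjSub g U ≤ (S : Subgroup G) → Acts NY (U : Set G) g) ∧
      (∀ V : Subgroup G, V ≤ (S : Subgroup G) → V ≠ ⊥ →
        SylIn p ((S : Subgroup G) ⊓ normalizer (V : Set G)) (normalizer (V : Set G)) →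
        k ≤ Nat.card ((S : Subgroup G) ⊓ normalizer (V : Set G) : Subgroup G) →
        ∀ x ∈ normalizer (V : Set G), ∀ B : Set G,
          B ⊆ ((S : Subgroup G) ⊓ normalizer (V : Set G) : Subgroup G) →
          (∀ b ∈ B, x * b * x⁻¹ ∈ (S : Subgroup G) ⊓ normalizer (V : Set G)) →
          Acts NY B x) by
    rcases eq_or_ne (Subgroup.closure A) ⊥ with h0 | h0
    · refine ⟨1, one_mem _, fun a ha => ?_⟩
      obtain rfl : a = 1 := mem_bot.mp (h0 ▸ subset_closure ha)
      group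
    · refine acts_mono ((key 2 le_rfl).1 (Subgroup.closure A) ((closure_le _).mpr hA) ?_ g
        (Control.closure_subset_of_cj (by rintro _ ⟨a, ha, rfl⟩; exact hg a ha))) subset_closure
      have := (Subgroup.one_lt_card_iff_ne_bot (Subgroup.closure A)).mpr h0
      omega
  intro k
  induction hj : Nat.card G + 1 - k using Nat.strong_induction_on generalizing k with
  | _ j IH' =>
  subst hj
  intro hk2
  rcases lt_or_ge (Nat.card G) k with hk | hk
  · constructor
    · intro U _ hU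
      have := Nat.le_of_dvd Nat.card_pos (card_subgroup_dvd_card U)
      omega
    · intro V _ _ _ hV
      have := Nat.le_of_dvd Nat.card_pos
        (card_subgroup_dvd_card ((S : Subgroup G) ⊓ normalizer (V : Set G)))
      omega
  obtain ⟨IH1, IH2⟩ := IH' _ (by omega) (k + 1) rfl (by omega)
  -- conjugations inside normalizers with a larger part of `S`
  have moved : ∀ W : Subgroup G, W ≤ (S : Subgroup G) → W ≠ ⊥ →
      k + 1 ≤ Nat.card ((S : Subgroup G) ⊓ normalizer (W : Set G) : Subgroup G) →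
      ∀ x ∈ normalizer (W : Set G), ∀ B : Set G,
        B ⊆ ((S : Subgroup G) ⊓ normalizer (W : Set G) : Subgroup G) →
        (∀ b ∈ B, x * b * x⁻¹ ∈ (S : Subgroup G) ⊓ normalizer (W : Set G)) →
        Acts NY B x := by
    intro W hWS hW1 hk1 x hx B hB hxB
    set R := (S : Subgroup G) ⊓ normalizer (W : Set G)
    obtain ⟨a, haW, haR⟩ := Control.movers_fullSet S W hWS
    set V := cjSub a W with hV
    obtain ⟨hVS, hVN⟩ := Control.allFull_fullSet S V haW
    have hRV : cjSub a R ≤ (S : Subgroup G) ⊓ normalizer (V : Set G) :=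
      le_inf haR (by rw [hV, ← Control.cjSub_normalizer]; exact map_mono inf_le_right)
    have ha : Acts NY (R : Set G) a := IH1 R inf_le_left hk1 a haR
    have hin : ∀ r ∈ R, a * r * a⁻¹ ∈ (S : Subgroup G) ⊓ normalizer (V : Set G) := fun r hr =>
      hRV (Control.mem_cjSub.mpr (by rwa [show a⁻¹ * (a * r * a⁻¹) * a = r by group]))
    have hx' : a * x * a⁻¹ ∈ normalizer (V : Set G) := by
      rw [hV, ← Control.cjSub_normalizer, Control.mem_cjSub]
      simpa [mul_assoc] using hx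
    have h2 := IH2 V hVS (Control.cjSub_ne_bot hW1) hVN
      (hk1.trans ((Control.card_cjSub a R).ge.trans (card_le_of_le hRV))) _ hx'
      ((fun b => a * b * a⁻¹) '' B)
      (by rintro _ ⟨b, hb, rfl⟩; exact hin b (hB hb))
      (by
        rintro _ ⟨b, hb, rfl⟩
        show a * x * a⁻¹ * (a * b * a⁻¹) * (a * x * a⁻¹)⁻¹ ∈ _
        rw [show a * x * a⁻¹ * (a * b * a⁻¹) * (a * x * a⁻¹)⁻¹ = a * (x * b * x⁻¹) * a⁻¹ by group]
        exact hin _ (hxB b hb))
    have h12 := (acts_mono ha hB).trans h2 fun b hb => ⟨b, hb, rfl⟩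
    have h3 := acts_inv (acts_mono ha (Set.image_subset_iff.mpr hxB :
      ((fun b => x * b * x⁻¹) '' B) ⊆ (R : Set G)))
    have := h12.trans h3 fun b hb => ⟨x * b * x⁻¹, ⟨b, hb, rfl⟩, by group⟩
    rwa [show a⁻¹ * (a * x * a⁻¹ * a) = x by group] at this
  constructor
  · intro U hUS hU g hg
    have hch := Control.famChain_of_conjSub_le S (Control.allFull_fullSet S) (Control.movers_fullSet S) U
      g⁻¹ hUS (by rw [Control.conjSub_eq_cjSub, inv_inv]; exact hg)
    have hch' := hch.big (k := k) (hU.trans_eq (Nat.card_coe_set_eq _))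
    rw [← inv_inv g]
    refine acts_chain ?_ hch'
    rintro F ⟨hF, hFk⟩ n hn
    obtain ⟨hFS, hFN⟩ := Control.allFull_fullSet S F hF
    rcases hFS.eq_or_lt with hFeq | hFlt
    · refine ⟨n, hN (sylow_le_normalizer_zInter _ ?_), fun _ _ => rfl⟩
      rw [← hFeq]; exact hn
    · have hlt := Fusion.lt_inf_normalizer_of_isPGroup S.2 hFlt
      have hF1 : F ≠ ⊥ := fun h => by
        rw [h, card_bot] at hFk; omega
      exact IH2 F hFS hF1 hFN (by have := Core.card_lt_of_lt hlt; omega) n hn _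
        (SetLike.coe_subset_coe.mpr hlt.le) fun b hb =>
          hlt.le ((mem_normalizer_iff.mp hn b).mp hb)
  · intro V hVS hV1 hVN hVk x hx B hB hxB
    set N := normalizer (V : Set G) with hNdef
    set R := (S : Subgroup G) ⊓ N with hR
    have hNtop := hloc V hVS hV1
    rcases (inf_le_left : R ≤ (S : Subgroup G)).eq_or_lt with hRS | hRS
    · exact acts_sub IH S hY hN hW hNtop (hRS.ge.trans inf_le_right) (hB.trans
        (SetLike.coe_subset_coe.mpr inf_le_left)) hx fun b hb => (hxB b hb).1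
    set Z := Fusion.zInter 0 R with hZ
    set YR := Y ⊓ Z with hYR
    have hRN : R < (S : Subgroup G) ⊓ normalizer (R : Set G) :=
      Fusion.lt_inf_normalizer_of_isPGroup S.2 hRS
    have hVR : V ≤ R := le_inf hVS le_normalizer
    have hR1 : R ≠ ⊥ := fun h => hV1 (le_bot_iff.mp (h ▸ hVR))
    have hZ1 : Z ≠ ⊥ := Fusion.zInter_ne_bot (S.2.to_le inf_le_left) hR1 (dvd_zero p)
    have hZR : ZS ≤ R := fun z hz => ⟨hYS hz.1, centralizer_le_normalizer _
      (mem_centralizer_iff.mpr fun v hv => mem_centralizer_iff.mp hz.2 v (hVS hv))⟩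
    have hYR1 : YR ≠ ⊥ := fun h => hZS1 (le_bot_iff.mp fun z hz => h ▸ ⟨hz.1,
      mem_sInf.mpr fun B hB => Fusion.mem_of_commute hB (hZR hz) (pow_zero z) fun b hb =>
        mem_centralizer_iff.mp hz.2 b (hB.le hb).1⟩)
    have hZS' : Z ≤ (S : Subgroup G) := (Fusion.zInter_le 0 R).trans inf_le_left
    have hkR : k + 1 ≤ Nat.card ((S : Subgroup G) ⊓ normalizer (R : Set G) : Subgroup G) := by
      have := Core.card_lt_of_lt hRN; omega
    have hR2 : (S : Subgroup G) ⊓ normalizer (R : Set G) ≤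
        (S : Subgroup G) ⊓ normalizer (Z : Set G) :=
      le_inf inf_le_left fun y hy => sylow_le_normalizer_zInter _ hy.2
    have hR3 : (S : Subgroup G) ⊓ normalizer (R : Set G) ≤
        (S : Subgroup G) ⊓ normalizer (YR : Set G) :=
      le_inf inf_le_left fun y hy => le_normalizer_inf (hSY hy.1) (hR2 hy).2
    have hkY := hkR.trans (card_le_of_le hR3)
    have hRR2 : R ≤ (S : Subgroup G) ⊓ normalizer (YR : Set G) := hRN.le.trans hR3
    have hh : ∀ n ∈ N, n ∈ normalizer (Z : Set G) → n ∈ normalizer (YR : Set G) := by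
      intro n _ hn
      have hZN : (Z : Set G) ⊆ ((S : Subgroup G) ⊓ normalizer (Z : Set G) : Subgroup G) :=
        SetLike.coe_subset_coe.mpr (le_inf hZS' le_normalizer)
      refine QdFree.ZJControl.mem_normalizer_of_conj (acts_normalizer_of_eq hn le_rfl
        (moved Z hZS' hZ1 (hkR.trans (card_le_of_le hR2)) n hn _ hZN fun b hb =>
          hZN ((mem_normalizer_iff.mp hn b).mp hb)))
    have hwit : ∀ T h, T ≤ R → h ∈ N → h ∈ normalizer (YR : Set G) → ¬ Pre p T h YR := by
      intro T h hT _ hh' hd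
      obtain ⟨y, hy, hye⟩ := moved YR (inf_le_left.trans hYS) hYR1 hkY h hh' (T : Set G)
        (SetLike.coe_subset_coe.mpr (hT.trans hRR2))
        fun b hb => hRR2 (hT ((mem_normalizer_iff.mp hd.1 b).mp hb))
      exact hW ⟨T, y, hT.trans inf_le_left, hy, (hd.congr hye).mono inf_le_left⟩
    obtain ⟨y, hy, hye⟩ := acts_in IH hNtop hVN (Y := YR) inf_le_right hh hwit hB hx hxB
    obtain ⟨z, hz, hze⟩ := moved YR (inf_le_left.trans hYS) hYR1 hkY y hy.2 B
      (hB.trans (SetLike.coe_subset_coe.mpr hRR2)) fun b hb => by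
        rw [← hye b hb]; exact hRR2 (hxB b hb)
    exact ⟨z, hz, fun b hb => (hye b hb).trans (hze b hb)⟩

end Cfsg.Agent.ZJFail
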