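import Cfsg.Agent.ZJFail.Basic

/-!
# Splitting over the natural plane

A group inducing a Borel subgroup of `SL₂(p)` on a quotient plane of a normal `p`-subgroup contains
witness data.
-/

set_option autoImplicit false
set_option maxHeartbeats 800000

namespace Cfsg.Agent.ZJFail

open Subgroup
open Cfsg.Agent
open Cfsg.Agent.QdFree (Affine sylowModel mkT vecAct)
open Cfsg.Agent.RootSub.Dickson (upR upR_add upR_zero)

universe u

variable {p : ℕ} [hp : Fact p.Prime] {G : Type u} [Group G] [Finite G]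

theorem dia_neg_one : dia (-1 : (ZMod p)ˣ) = -1 := by
  apply Subtype.ext
  rw [Matrix.SpecialLinearGroup.coe_neg, Matrix.SpecialLinearGroup.coe_one, Matrix.one_fin_two]
  show !![((-1 : (ZMod p)ˣ) : ZMod p), 0; 0, (((-1 : (ZMod p)ˣ)⁻¹ : (ZMod p)ˣ) : ZMod p)] = _
  rw [inv_neg_one, Units.val_neg, Units.val_one]
  simp only [Matrix.neg_of, Matrix.neg_cons, neg_zero, Matrix.neg_empty]

theorem tor_normalizes (ω : (ZMod p)ˣ) {g : Affine (ZMod p)} (hg : g ∈ sylowModel p) :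
    tor ω * g * (tor ω)⁻¹ ∈ sylowModel p := by
  obtain ⟨x, y, a, rfl⟩ := QdFree.exists_mkT hg
  refine ⟨(ω : ZMod p) * ω * a, ?_⟩
  show upR _ = (tor ω * mkT x y a * (tor ω)⁻¹).right
  rw [SemidirectProduct.mul_right, SemidirectProduct.mul_right, SemidirectProduct.inv_right,
    eq_mul_inv_iff_mul_eq]
  show upR _ * dia ω = dia ω * upR a
  obtain ⟨v, v', hv, hd⟩ : ∃ v v' : ZMod p, v * v' = 1 ∧
      (dia ω).1 = !![v, 0; 0, v'] ∧ (ω : ZMod p) = v :=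
    ⟨_, _, ω.mul_inv, rfl, rfl⟩
  obtain ⟨hd, hω⟩ := hd
  rw [hω]
  have hu : ∀ r : ZMod p, (upR r : Matrix.SpecialLinearGroup (Fin 2) (ZMod p)).1 = !![1, r; 0, 1] :=
    fun r => RootSub.Dickson.coe_upR r
  apply Subtype.ext
  rw [Matrix.SpecialLinearGroup.coe_mul, Matrix.SpecialLinearGroup.coe_mul, hd, hu, hu,
    Matrix.mul_fin_two, Matrix.mul_fin_two]
  simp only [one_mul, mul_one, zero_mul, mul_zero, add_zero, zero_add]
  rw [show v * v * a * v' = v * a by rw [mul_right_comm, mul_assoc v v, hv, mul_one]]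

/-- Witness data from a Borel action on a quotient plane. -/
theorem exists_torus (h2 : p ≠ 2) {K W : Subgroup G} (hWK : W ≤ K)
    (hKW : K ≤ normalizer (W : Set G)) (hWp : IsPGroup p W)
    (A : K →* Matrix.SpecialLinearGroup (Fin 2) (ZMod p)) (hAW : ∀ k : K, (k : G) ∈ W → A k = 1)
    (hup : upR 1 ∈ A.range) (htor : ∀ ω, dia ω ∈ A.range)
    (Θ : W →* Multiplicative (Fin 2 → ZMod p)) (hΘ : Function.Surjective Θ)
    (heq : ∀ (k : K) (w w' : W), (w' : G) = k * w * (k : G)⁻¹ → Θ w' = vecAct (A k) (Θ w))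
    {Y : Subgroup G} (u : W) (hu : Θ u = Multiplicative.ofAdd ![1, 0]) (huY : (u : G) ∈ Y) :
    ∃ (T : Subgroup G) (h : G), T ≤ K ∧ h ∈ K ∧ IsPGroup p T ∧ Pre p T h Y := by
  have : Fact (Nat.Prime 2) := ⟨Nat.prime_two⟩
  set WK := W.subgroupOf K with hWKdef
  have hWn : WK.Normal := (normal_subgroupOf_iff_le_normalizer hWK).mpr hKW
  set Zc := zpowers (-1 : Matrix.SpecialLinearGroup (Fin 2) (ZMod p))
  have hZn : Zc.Normal := by
    refine ⟨fun x hx g => ?_⟩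
    obtain ⟨i, rfl⟩ := hx
    show g * (-1) ^ i * g⁻¹ ∈ Zc
    rw [((Commute.neg_one_right g).zpow_right i).eq, mul_inv_cancel_right]
    exact zpow_mem (mem_zpowers _) i
  set D := Zc.comap A with hD
  have hDn : D.Normal := hZn.comap A
  obtain ⟨z0, hz0⟩ := dia_neg_one (p := p) ▸ htor (-1)
  obtain ⟨a, m, hm, hord⟩ := Nat.exists_eq_pow_mul_and_not_dvd (orderOf_pos z0).ne' 2 (by norm_num)
  have hmodd : Odd m := Nat.not_even_iff_odd.mp fun h => hm h.two_dvd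
  set z := z0 ^ m with hz
  have hAz : A z = -1 := by rw [hz, map_pow, hz0, hmodd.neg_one_pow]
  have hzD : z ∈ D := show A z ∈ Zc from hAz ▸ mem_zpowers _
  have hz2 : z ^ 2 ^ a = 1 := by rw [hz, ← pow_mul, mul_comm, ← hord, pow_orderOf_eq_one]
  obtain ⟨T2, hT2⟩ := (show IsPGroup 2 (zpowers (⟨z, hzD⟩ : D)) by
    obtain ⟨k, -, hk⟩ := (Nat.dvd_prime_pow Nat.prime_two).mp
      (orderOf_dvd_of_pow_eq_one (show (⟨z, hzD⟩ : D) ^ 2 ^ a = 1 from Subtype.ext hz2))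
    exact IsPGroup.of_card (n := k) (by rw [Nat.card_zpowers, hk])).exists_le_sylow
  set T' := (T2 : Subgroup D).map D.subtype
  have hzT : z ∈ T' := ⟨⟨z, hzD⟩, hT2 (mem_zpowers _), rfl⟩
  set L := normalizer (T' : Set K)
  have hAL : ∀ k : K, ∃ l ∈ L, A l = A k := by
    intro k
    have htop : L ⊔ D = ⊤ := T2.normalizer_sup_eq_top
    obtain ⟨n, hn, d, hd, rfl⟩ := mem_sup_of_normal_right.mp (htop.ge (mem_top k))
    obtain ⟨i, hi⟩ := hd
    refine ⟨n * z ^ i, mul_mem hn (zpow_mem (le_normalizer hzT) i), ?_⟩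
    rw [map_mul, map_mul, map_zpow, hAz]
    exact congrArg _ hi
  have hT'p : IsPGroup 2 T' := T2.2.map _
  -- `L ⊓ W` lies in the kernel
  have hLW : ∀ l : K, l ∈ L → ∀ hl : (l : G) ∈ W, Θ ⟨l, hl⟩ = 1 := by
    intro l hl hlW
    have hlWK : l ∈ WK := hlW
    have h1 : l * z * l⁻¹ * z⁻¹ ∈ T' := mul_mem ((mem_normalizer_iff.mp hl z).mp hzT) (inv_mem hzT)
    have h2' : l * z * l⁻¹ * z⁻¹ ∈ WK := by
      rw [show l * z * l⁻¹ * z⁻¹ = l * (z * l⁻¹ * z⁻¹) by group]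
      exact mul_mem hlWK (hWn.conj_mem _ (inv_mem hlWK) z)
    have h3 : l * z * l⁻¹ * z⁻¹ = 1 := by
      have hWKp : IsPGroup p WK := hWp.comap_subtype
      have hdisj := IsPGroup.disjoint_of_ne p 2 h2 WK T' hWKp hT'p
      exact mem_bot.mp (hdisj.eq_bot ▸ ⟨h2', h1⟩)
    have hc : (l : G) = z * l * (z : G)⁻¹ := by
      have h4 : l * z = z * l := by
        rw [mul_inv_eq_one, mul_inv_eq_iff_eq_mul] at h3
        exact h3
      have := congrArg (fun k : K => (k : G)) h4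
      simp only [Subgroup.coe_mul] at this
      rw [← this, mul_inv_cancel_right]
    have h5 := heq z ⟨l, hlW⟩ ⟨l, hlW⟩ hc
    rw [hAz] at h5
    have h6 : (Θ ⟨l, hlW⟩).toAdd + (Θ ⟨l, hlW⟩).toAdd = 0 := by
      have h7 := congrArg Multiplicative.toAdd h5
      rw [QdFree.vecAct_apply, Matrix.SpecialLinearGroup.coe_neg, Matrix.SpecialLinearGroup.coe_one,
        Matrix.neg_mulVec, Matrix.one_mulVec] at h7
      rw [← eq_neg_iff_add_eq_zero]; exact h7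
    exact Multiplicative.toAdd.injective (QdFree.qd_zero_two_half h2 h6)
  set K₁ := WK ⊔ L with hK₁
  have hmem : ∀ k : K₁, ∃ w ∈ WK, ∃ l ∈ L, w * l = (k : K) := fun k =>
    mem_sup_of_normal_left.mp k.2
  choose wf hwf lf hlf hdec using hmem
  have huniq : ∀ w₁ w₂ l₁ l₂ : K, ∀ h₁ : w₁ ∈ WK, ∀ h₂ : w₂ ∈ WK, l₁ ∈ L → l₂ ∈ L →
      w₁ * l₁ = w₂ * l₂ → Θ ⟨_, h₁⟩ = Θ ⟨_, h₂⟩ ∧ A l₁ = A l₂ := by
    intro w₁ w₂ l₁ l₂ h₁ h₂ hl₁ hl₂ he
    have he' : w₂⁻¹ * w₁ = l₂ * l₁⁻¹ := by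
      rw [eq_mul_inv_iff_mul_eq, mul_assoc, he, inv_mul_cancel_left]
    have hin : w₂⁻¹ * w₁ ∈ WK := mul_mem (inv_mem h₂) h₁
    constructor
    · have := hLW (w₂⁻¹ * w₁) (he' ▸ mul_mem hl₂ (inv_mem hl₁)) hin
      have he2 : (⟨_, hin⟩ : W) = (⟨_, h₂⟩ : W)⁻¹ * ⟨_, h₁⟩ := Subtype.ext (by simp)
      have := (congrArg Θ he2).symm.trans this
      rw [map_mul, map_inv, inv_mul_eq_one] at this
      exact this.symm
    · have := hAW (w₂⁻¹ * w₁) hin
      rw [he', map_mul, map_inv, mul_inv_eq_one] at this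
      exact this.symm
  let Φf : K₁ → Affine (ZMod p) := fun k => ⟨Θ ⟨wf k, hwf k⟩, A (lf k)⟩
  have hΦ : ∀ (w l : K) (hw : w ∈ WK), l ∈ L → ∀ h : w * l ∈ K₁,
      Φf ⟨w * l, h⟩ = ⟨Θ ⟨w, hw⟩, A l⟩ := by
    intro w l hw hl h
    obtain ⟨e1, e2⟩ := huniq _ _ _ _ (hwf ⟨w * l, h⟩) hw (hlf ⟨w * l, h⟩) hl (hdec ⟨w * l, h⟩)
    exact SemidirectProduct.ext e1 e2
  let Φ : K₁ →* Affine (ZMod p) := MonoidHom.mk' Φf fun x y => by
    have hw : wf x * (lf x * wf y * (lf x)⁻¹) ∈ WK := mul_mem (hwf x) (hWn.conj_mem _ (hwf y) _)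
    have he : ((x * y : K₁) : K) = wf x * (lf x * wf y * (lf x)⁻¹) * (lf x * lf y) := by
      rw [Subgroup.coe_mul, ← hdec x, ← hdec y]; group
    have := hΦ _ _ hw (mul_mem (hlf x) (hlf y)) (he ▸ (x * y).2)
    rw [show (⟨_, he ▸ (x * y).2⟩ : K₁) = x * y from Subtype.ext he.symm] at this
    rw [this]
    refine SemidirectProduct.ext ?_ (map_mul A _ _)
    rw [SemidirectProduct.mul_left]
    have hc : lf x * wf y * (lf x)⁻¹ ∈ WK := hWn.conj_mem _ (hwf y) _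
    show Θ ⟨_, hw⟩ = Θ ⟨_, hwf x⟩ * vecAct (A (lf x)) (Θ ⟨_, hwf y⟩)
    rw [← heq (lf x) ⟨_, hwf y⟩ ⟨_, hc⟩ (by simp), ← map_mul]
    exact congrArg Θ (Subtype.ext (by simp))
  have hΦw : ∀ (w : K) (hw : w ∈ WK) (h : w ∈ K₁), Φ ⟨w, h⟩ = SemidirectProduct.inl (Θ ⟨w, hw⟩) := by
    intro w hw h
    have := hΦ w 1 hw (one_mem L) (by rwa [mul_one])
    simp only [mul_one, map_one] at this
    exact this.trans (SemidirectProduct.ext rfl rfl)
  have hΦl : ∀ (l : K) (hl : l ∈ L) (h : l ∈ K₁), Φ ⟨l, h⟩ = SemidirectProduct.inr (A l) := by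
    intro l hl h
    have := hΦ 1 l (one_mem _) hl (by rwa [one_mul])
    simp only [one_mul] at this
    refine this.trans (SemidirectProduct.ext ?_ rfl)
    exact map_one Θ
  -- the range contains the model
  have hrange : sylowModel p ≤ Φ.range := by
    have hinl : ∀ v, SemidirectProduct.inl v ∈ Φ.range := fun v => by
      obtain ⟨w, rfl⟩ := hΘ v
      exact ⟨⟨⟨w, hWK w.2⟩, mem_sup_left (show (⟨w, hWK w.2⟩ : K) ∈ WK from w.2)⟩,
        hΦw ⟨w, hWK w.2⟩ w.2 _⟩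
    intro g hg
    obtain ⟨r, hr⟩ := hg
    have hinr : SemidirectProduct.inr (upR r) ∈ Φ.range := by
      obtain ⟨k, hk⟩ := hup
      obtain ⟨l, hl, hle⟩ := hAL (k ^ r.val)
      refine ⟨⟨l, mem_sup_right hl⟩, (hΦl l hl _).trans (congrArg _ ?_)⟩
      rw [hle, map_pow, hk]
      conv_rhs => rw [← ZMod.natCast_zmod_val r]
      induction r.val with
      | zero => rw [pow_zero, Nat.cast_zero, upR_zero]
      | succ j ih => rw [pow_succ, ih, Nat.cast_succ, upR_add]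
    rw [← SemidirectProduct.inl_left_mul_inr_right g, ← show upR r = g.right from hr]
    exact mul_mem (hinl _) hinr
  set P0 := (sylowModel p).comap Φ
  have hψs : Function.Surjective (Φ.subgroupComap (sylowModel p)) := fun g => by
    obtain ⟨k, hk⟩ := hrange g.2
    exact ⟨⟨k, show Φ k ∈ sylowModel p from hk ▸ g.2⟩, Subtype.ext hk⟩
  set ψ := Φ.subgroupComap (sylowModel p)
  obtain ⟨Tp⟩ := (inferInstance : Nonempty (Sylow p P0))
  have hTtop : (Tp : Subgroup P0).map ψ = ⊤ := by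
    have hpm : IsPGroup p (sylowModel p) := QdFree.isPGroup_sylowModel
    have h := ((Tp.mapSurjective hψs).is_maximal' (hpm.to_subgroup ⊤) le_top).symm
    rwa [Sylow.coe_mapSurjective] at h
  let emb : P0 →* G := (K.subtype.comp K₁.subtype).comp P0.subtype
  have hemb : Function.Injective emb :=
    (Subtype.val_injective.comp Subtype.val_injective).comp Subtype.val_injective
  -- a generator of the units
  obtain ⟨ω, hω⟩ := IsCyclic.exists_generator (α := (ZMod p)ˣ)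
  obtain ⟨k, hk⟩ := htor ω
  obtain ⟨l, hl, hle⟩ := hAL k
  set l₁ : K₁ := ⟨l, mem_sup_right hl⟩
  have hΦl₁ : Φ l₁ = tor ω := (hΦl l hl _).trans (by rw [hle, hk]; rfl)
  have hconj : ∀ (x : K₁), x ∈ P0 → l₁ * x * l₁⁻¹ ∈ P0 := fun x hx => by
    show Φ _ ∈ sylowModel p
    rw [map_mul, map_mul, map_inv, hΦl₁]
    exact tor_normalizes ω hx
  set T₁ := (Tp : Subgroup P0).map P0.subtype
  have hT₁P : T₁ ≤ P0 := map_subtype_le _
  have hlT : T₁.map (MulAut.conj l₁).toMonoidHom ≤ P0 := by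
    rintro _ ⟨x, hx, rfl⟩
    exact hconj x (hT₁P hx)
  obtain ⟨q, hq⟩ : ∃ q : P0, ∀ x ∈ T₁, (q : K₁) * (l₁ * x * l₁⁻¹) * (q : K₁)⁻¹ ∈ T₁ := by
    have hp' : IsPGroup p ((T₁.map (MulAut.conj l₁).toMonoidHom).subgroupOf P0) :=
      ((Tp.2.map _).map _).comap_subtype
    obtain ⟨P', hP'⟩ := hp'.exists_le_sylow
    obtain ⟨q, hq⟩ := MulAction.exists_smul_eq P0 P' Tp
    refine ⟨q, fun x hx => ?_⟩
    have hin : (⟨l₁ * x * l₁⁻¹, hconj x (hT₁P hx)⟩ : P0) ∈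
        (T₁.map (MulAut.conj l₁).toMonoidHom).subgroupOf P0 := ⟨x, hx, rfl⟩
    refine ⟨q * ⟨l₁ * x * l₁⁻¹, hconj x (hT₁P hx)⟩ * q⁻¹, ?_, rfl⟩
    rw [← hq, Sylow.coe_subgroup_smul]
    exact ⟨_, hP' hin, rfl⟩
  obtain ⟨t, ht, hte⟩ := (hTtop.ge (mem_top (ψ q)⁻¹) : (ψ q)⁻¹ ∈ (Tp : Subgroup P0).map ψ)
  set h₁ : K₁ := (t : K₁) * ((q : K₁) * l₁) with hh₁
  have hΦh : Φ h₁ = tor ω := by
    have : Φ (t : K₁) = (Φ (q : K₁))⁻¹ := congrArg Subtype.val hte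
    rw [hh₁, map_mul, map_mul, this, inv_mul_cancel_left, hΦl₁]
  have hh₁T : ∀ x ∈ T₁, h₁ * x * h₁⁻¹ ∈ T₁ := fun x hx => by
    rw [hh₁, show (t : K₁) * ((q : K₁) * l₁) * x * ((t : K₁) * ((q : K₁) * l₁))⁻¹ =
      (t : K₁) * ((q : K₁) * (l₁ * x * l₁⁻¹) * (q : K₁)⁻¹) * (t : K₁)⁻¹ by group]
    exact mul_mem (mul_mem (mem_map_of_mem _ ht) (hq x hx)) (inv_mem (mem_map_of_mem _ ht))
  set T := (Tp : Subgroup P0).map emb with hT
  let eT : (Tp : Subgroup P0) ≃* T := (Tp : Subgroup P0).equivMapOfInjective emb hemb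
  have heT : ∀ x : T, emb (eT.symm x : P0) = x := fun x =>
    congrArg Subtype.val (eT.apply_symm_apply x)
  let f : T →* Affine (ZMod p) :=
    (Φ.comp P0.subtype).comp ((Tp : Subgroup P0).subtype.comp eT.symm.toMonoidHom)
  -- `u` lies in `T`
  have huT : ∃ x : (Tp : Subgroup P0), emb x = u ∧ Φ ((x : P0) : K₁) = mkT 1 0 0 := by
    set uK : K := ⟨u, hWK u.2⟩
    have huWK : uK ∈ WK := u.2
    have hWle : WK ≤ K₁ := le_sup_left
    have hWP : ∀ w : K₁, (w : K) ∈ WK → w ∈ P0 := fun w hw => by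
      show Φ w ∈ sylowModel p
      rw [hΦw w hw w.2]
      exact ⟨0, upR_zero⟩
    have hn : ((WK.subgroupOf K₁).subgroupOf P0).Normal := (hWn.subgroupOf K₁).subgroupOf P0
    have hWPp : IsPGroup p ((WK.subgroupOf K₁).subgroupOf P0) :=
      hWp.comap_subtype.comap_subtype.comap_subtype
    have hle := hWPp.le_sylow_of_normal Tp
    refine ⟨⟨⟨⟨uK, hWle huWK⟩, hWP _ huWK⟩, hle huWK⟩, rfl, ?_⟩
    rw [hΦw uK huWK, show (⟨(uK : G), huWK⟩ : W) = u from Subtype.ext rfl, hu]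
    refine SemidirectProduct.ext rfl ?_
    show (1 : Matrix.SpecialLinearGroup (Fin 2) (ZMod p)) = upR 0
    rw [upR_zero]
  obtain ⟨x₀, hx₀, hx₀Φ⟩ := huT
  refine ⟨T, ((h₁ : K) : G), ?_, (h₁ : K).2, Tp.2.map _,
    ⟨QdFree.ZJControl.mem_normalizer_of_conj ?_, ⟨⟨f, ?_, ω, ?_, ?_, eT x₀, ?_, 1, one_ne_zero, ?_⟩⟩⟩⟩
  · rintro _ ⟨x, -, rfl⟩
    exact ((x : K₁) : K).2
  · rintro _ ⟨x, hx, rfl⟩
    obtain ⟨y, hy, hye⟩ := hh₁T _ (mem_map_of_mem P0.subtype hx)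
    refine ⟨y, hy, ?_⟩
    exact congrArg (fun z : K₁ => ((z : K) : G)) hye
  · refine le_antisymm ?_ fun g hg => ?_
    · rintro _ ⟨x, rfl⟩
      exact ((eT.symm x : (Tp : Subgroup P0)) : P0).2
    · obtain ⟨x, hx, hxe⟩ := (hTtop.ge (mem_top (⟨g, hg⟩ : sylowModel p)) :
        _ ∈ (Tp : Subgroup P0).map ψ)
      refine ⟨eT ⟨x, hx⟩, ?_⟩
      simp only [f, MonoidHom.comp_apply, MulEquiv.coe_toMonoidHom, MulEquiv.symm_apply_apply]
      exact congrArg Subtype.val hxe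
  · rw [orderOf_eq_card_of_forall_mem_zpowers hω, Nat.card_eq_fintype_card, ZMod.card_units]
  · intro x y hxy
    have hK : ((eT.symm y : P0) : K₁) = h₁ * ((eT.symm x : P0) : K₁) * h₁⁻¹ := by
      refine Subtype.val_injective (Subtype.val_injective ?_)
      show emb (eT.symm y : P0) = (((h₁ : K) : G)) * emb (eT.symm x : P0) * (((h₁ : K) : G))⁻¹
      rw [heT, heT]; exact hxy
    simp only [f, MonoidHom.comp_apply, MulEquiv.coe_toMonoidHom, Subgroup.coe_subtype]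
    rw [hK, map_mul, map_mul, map_inv, hΦh]
  · show emb x₀ ∈ Y
    rw [hx₀]; exact huY
  · simp only [f, MonoidHom.comp_apply, MulEquiv.coe_toMonoidHom, MulEquiv.symm_apply_apply]
    exact hx₀Φ

end Cfsg.Agent.ZJFail
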