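import Cfsg.Agent.ZJFail.QuadPlane
import Cfsg.Agent.ZJFail.Split

/-!
# The Borel subgroup deep inside

From the plane of a deep pair: a subgroup inside `M` inducing a Borel subgroup of `SL₂(p)`.
-/

set_option autoImplicit false
set_option maxHeartbeats 800000

namespace Cfsg.Agent.ZJFail

open Subgroup Matrix
open Cfsg.Agent
open Cfsg.Agent.RootSub.Dickson

universe u

variable {p : ℕ} [hp : Fact p.Prime] {V : Type u} [AddCommGroup V] [Finite V]
  {H : Type*} [Group H] [Finite H]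

/-- A Borel subgroup inside `M`. -/
theorem exists_borel (h2 : p ≠ 2) (hV : ∀ v : V, p • v = 0) (ρ : H →* AddMonoid.End V)
    (hDp : ∀ d : H, (ρ d - 1) * (ρ d - 1) = 0 → IsPGroup p (zpowers d))
    {M R : Subgroup H} {a b : H}
    (hd : Deep p M {d : H | (ρ d - 1) * (ρ d - 1) = 0} R a b) {u : V} (hau : ρ a u = u)
    (hu : ∀ x : H, ρ x u = u → x ∈ M) :
    ∃ (K : Subgroup H) (W : AddSubgroup V) (θ : W →+ (Fin 2 → ZMod p))
      (A : K →* SpecialLinearGroup (Fin 2) (ZMod p)) (hW : ∀ k ∈ K, ∀ w ∈ W, ρ k w ∈ W)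
      (hu' : u ∈ W),
      K ≤ M ∧ Function.Surjective θ ∧ θ ⟨u, hu'⟩ = ![1, 0] ∧ upR 1 ∈ A.range ∧
      (∀ ω, dia ω ∈ A.range) ∧
      ∀ (k : K) (w : W), θ ⟨ρ (k : H) w, hW k k.2 w w.2⟩ =
        ((A k : SpecialLinearGroup (Fin 2) (ZMod p)) : Matrix (Fin 2) (Fin 2) (ZMod p)) *ᵥ θ w := by
  obtain ⟨a', W, θ, n, hu', ha, ha', hn, ha'R, hθs, hθu, hθa, hθa'⟩ :=
    exists_plane h2 hV ρ hd hau hu
  let G₂ : Subgroup H :=
    { carrier := {k | k ∈ normalizer (R : Set H) ∧ ∃ hk : ∀ w ∈ W, ρ k w ∈ W,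
        ∃ g : SpecialLinearGroup (Fin 2) (ZMod p), ∀ w : W,
          θ ⟨ρ k w, hk w w.2⟩ = (g : Matrix (Fin 2) (Fin 2) (ZMod p)) *ᵥ θ w}
      one_mem' := ⟨one_mem _, fun w hw => by rw [map_one]; exact hw, 1, fun w => by
        refine Eq.trans ?_ (one_mulVec _).symm
        congr 1
        exact Subtype.ext (show ρ 1 (w : V) = (1 : AddMonoid.End V) (w : V) from
          DFunLike.congr_fun (map_one ρ) _)⟩
      mul_mem' := fun {k l} hk' hl' => by
        obtain ⟨hkR, hk, g, hg⟩ := hk'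
        obtain ⟨hlR, hl, g', hg'⟩ := hl'
        refine ⟨mul_mem hkR hlR, fun w hw => by rw [map_mul]; exact hk _ (hl w hw), g * g', fun w => ?_⟩
        refine Eq.trans ?_ ((congrArg _ (hg' w)).trans (mulVec_mulVec _ _ _))
        refine Eq.trans ?_ (hg _)
        congr 1
        exact Subtype.ext (show ρ (k * l) (w : V) = (ρ k * ρ l) (w : V) from
          DFunLike.congr_fun (map_mul ρ k l) _)
      inv_mem' := fun {k} hk' => by
        obtain ⟨hkR, hk, g, hg⟩ := hk'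
        have hinv : ∀ v, ρ k (ρ k⁻¹ v) = v := fun v => by
          show (ρ k * ρ k⁻¹) v = v
          rw [← map_mul, mul_inv_cancel, map_one]
          rfl
        have hkinj : Function.Injective (fun w : W => (⟨ρ k w, hk w w.2⟩ : W)) := fun w w' h => by
          refine Subtype.ext ?_
          have h' := congrArg (fun z : W => ρ k⁻¹ (z : V)) h
          simpa [show ∀ v, ρ k⁻¹ (ρ k v) = v from fun v => by
            show (ρ k⁻¹ * ρ k) v = v
            rw [← map_mul, inv_mul_cancel, map_one]; rfl] using h'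
        have hk' : ∀ w ∈ W, ρ k⁻¹ w ∈ W := fun w hw => by
          obtain ⟨w', hw'⟩ := Finite.injective_iff_surjective.mp hkinj ⟨w, hw⟩
          have h' := congrArg (fun z : W => ρ k⁻¹ (z : V)) hw'
          have he : ρ k⁻¹ (ρ k (w' : V)) = w' := by
            show (ρ k⁻¹ * ρ k) (w' : V) = w'
            rw [← map_mul, inv_mul_cancel, map_one]; rfl
          simp only [he] at h'
          exact h' ▸ w'.2
        refine ⟨inv_mem hkR, hk', g⁻¹, fun w => ?_⟩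
        have h1 := hg ⟨ρ k⁻¹ w, hk' w w.2⟩
        simp only [hinv, Subtype.coe_eta] at h1
        have hgg : (g⁻¹ : SpecialLinearGroup (Fin 2) (ZMod p)).1 * g.1 = 1 :=
          congrArg Subtype.val (inv_mul_cancel g)
        exact (one_mulVec _).symm.trans ((congrArg (fun m => m *ᵥ _) hgg.symm).trans
          ((mulVec_mulVec _ _ _).symm.trans (congrArg _ h1.symm))) }
  choose hkW A₀ hA₀ using fun k : G₂ => k.2.2
  have huniq : ∀ (g g' : SpecialLinearGroup (Fin 2) (ZMod p)),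
      (∀ w : W, (g : Matrix (Fin 2) (Fin 2) (ZMod p)) *ᵥ θ w =
        (g' : Matrix (Fin 2) (Fin 2) (ZMod p)) *ᵥ θ w) → g = g' := by
    intro g g' h
    apply Subtype.ext
    ext i j
    obtain ⟨w, hw⟩ := hθs (Pi.single j 1)
    have h' := h w
    rw [hw, mulVec_single_one, mulVec_single_one] at h'
    exact congrFun h' i
  let A₂ : G₂ →* SpecialLinearGroup (Fin 2) (ZMod p) := MonoidHom.mk' A₀ fun k l => huniq _ _ fun w => by
    refine (hA₀ (k * l) w).symm.trans ?_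
    refine Eq.trans ?_ ((congrArg _ (hA₀ l w)).trans (mulVec_mulVec _ _ _))
    refine Eq.trans ?_ (hA₀ k _)
    congr 1
    exact Subtype.ext (show ρ ((k * l : G₂) : H) (w : V) = (ρ k * ρ l) (w : V) from
      DFunLike.congr_fun (map_mul ρ (k : H) l) _)
  have haG : a ∈ G₂ := ⟨hd.a_norm, ha, _, hθa⟩
  have ha'G : a' ∈ G₂ := ⟨ha'R, ha', _, hθa'⟩
  have hAa : A₂ ⟨a, haG⟩ = upR n := huniq _ _ fun w => (hA₀ ⟨a, haG⟩ w).symm.trans (hθa w)
  have hAa' : A₂ ⟨a', ha'G⟩ = lowR 1 := huniq _ _ fun w => (hA₀ ⟨a', ha'G⟩ w).symm.trans (hθa' w)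
  have hpowU : ∀ (r : ZMod p), upR r ∈ A₂.range := by
    intro r
    have key : ∀ k : ℕ, upR ((k : ZMod p) * n) ∈ A₂.range := by
      intro k
      induction k with
      | zero => simp [upR_zero]
      | succ k ih =>
        rw [Nat.cast_succ, add_mul, one_mul, upR_add]
        exact mul_mem ih ⟨_, hAa⟩
    have := key (r * n⁻¹).val
    rwa [ZMod.natCast_zmod_val, inv_mul_cancel_right₀ hn] at this
  have hAtop : A₂.range = ⊤ := by
    refine eq_top_of_trans hpowU fun r => ?_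
    have key : ∀ k : ℕ, lowR (k : ZMod p) ∈ A₂.range := by
      intro k
      induction k with
      | zero => simp [lowR_zero]
      | succ k ih =>
        rw [Nat.cast_succ, lowR_add]
        exact mul_mem ih ⟨_, hAa'⟩
    have := key r.val
    rwa [ZMod.natCast_zmod_val] at this
  -- the Sylow subgroup over `a`
  set P0 := (QdFree.upGroup p).comap A₂
  have haP0 : (⟨a, haG⟩ : G₂) ∈ P0 := ⟨n, hAa.symm⟩
  obtain ⟨P3, hP3⟩ := (show IsPGroup p (zpowers (⟨⟨a, haG⟩, haP0⟩ : P0)) by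
    obtain ⟨k, hk⟩ := IsPGroup.iff_orderOf.mp (hDp a hd.a_mem) ⟨a, mem_zpowers a⟩
    refine IsPGroup.of_card (n := k) ?_
    rw [Nat.card_zpowers, ← Subgroup.orderOf_coe, ← Subgroup.orderOf_coe]
    rw [← hk, Subgroup.orderOf_mk]).exists_le_sylow
  set P := ((P3 : Subgroup P0).map P0.subtype).map G₂.subtype
  have hPp : IsPGroup p P := (P3.2.map _).map _
  have hPN : P ≤ normalizer (R : Set H) := by
    rintro _ ⟨x, -, rfl⟩
    exact x.2.1
  have haP : a ∈ P := ⟨⟨a, haG⟩, ⟨⟨⟨a, haG⟩, haP0⟩, hP3 (mem_zpowers _), rfl⟩, rfl⟩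
  set K₀ := G₂ ⊓ normalizer (P : Set H)
  have hK₀M : K₀ ≤ M := by
    intro x hx
    refine hd.mem (P ⊔ R) (hPp.to_sup_of_normal_right' hd.isPGroup hPN) le_sup_right
      (mem_sup_left haP) x (mem_normalizer_iff_map_conj_eq.mpr ?_)
    rw [Subgroup.map_sup, mem_normalizer_iff_map_conj_eq.mp hx.2,
      mem_normalizer_iff_map_conj_eq.mp hx.1.1]
  have hup1 : ∀ r, ∃ k : P0, k ∈ (P3 : Subgroup P0) ∧ A₂ (k : G₂) = upR r := by
    intro r
    let f : P0 →* QdFree.upGroup p := A₂.subgroupComap (QdFree.upGroup p)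
    have hf : Function.Surjective f := fun g => by
      obtain ⟨k, hk⟩ := (hAtop.ge (mem_top g.1) : g.1 ∈ A₂.range)
      exact ⟨⟨k, show A₂ k ∈ QdFree.upGroup p from hk ▸ g.2⟩, Subtype.ext hk⟩
    have hpg : IsPGroup p (QdFree.upGroup p) := by
      refine IsPGroup.of_card (n := 1) ?_
      rw [pow_one, show Nat.card (QdFree.upGroup p) = Nat.card (ZMod p) from
        (Nat.card_congr (Equiv.ofInjective _ QdFree.upR_injective)).symm, Nat.card_zmod]
    have h := ((P3.mapSurjective hf).is_maximal' (hpg.to_subgroup ⊤) le_top).symm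
    rw [Sylow.coe_mapSurjective] at h
    obtain ⟨k, hk, hke⟩ := (h.ge (mem_top (⟨upR r, r, rfl⟩ : QdFree.upGroup p)))
    exact ⟨k, hk, congrArg Subtype.val hke⟩
  have hPK : ∀ k : P0, k ∈ (P3 : Subgroup P0) → ((k : G₂) : H) ∈ K₀ := fun k hk =>
    ⟨(k : G₂).2, le_normalizer ⟨k, ⟨k, hk, rfl⟩, rfl⟩⟩
  let A : K₀ →* SpecialLinearGroup (Fin 2) (ZMod p) := A₂.comp (Subgroup.inclusion inf_le_left)
  refine ⟨K₀, W, θ, A, fun k hk => hk.1.2.1, hu', hK₀M, hθs, hθu, ?_, fun ω => ?_, fun k w =>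
    hA₀ ⟨k, k.2.1⟩ w⟩
  · obtain ⟨k, hk, hke⟩ := hup1 1
    exact ⟨⟨_, hPK k hk⟩, hke⟩
  obtain ⟨k, hk⟩ := (hAtop.ge (mem_top (dia ω)) : dia ω ∈ A₂.range)
  have hconj : ∀ x ∈ P0, k * x * k⁻¹ ∈ P0 := by
    rintro x ⟨r, hr⟩
    obtain ⟨r', hr'⟩ := tor_normalizes ω (QdFree.mkT_mem 0 0 r)
    refine ⟨r', hr'.trans ?_⟩
    show (tor ω * QdFree.mkT 0 0 r * (tor ω)⁻¹).right = A₂ (k * x * k⁻¹)
    rw [map_mul, map_mul, map_inv, hk, ← show upR r = A₂ x from hr]
    rfl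
  set T₁ := (P3 : Subgroup P0).map P0.subtype
  have hp' : IsPGroup p ((T₁.map (MulAut.conj k).toMonoidHom).subgroupOf P0) :=
    ((P3.2.map _).map _).comap_subtype
  obtain ⟨P', hP'⟩ := hp'.exists_le_sylow
  obtain ⟨q, hq⟩ := MulAction.exists_smul_eq P0 P' P3
  obtain ⟨s, hs⟩ : ∃ r, upR r = A₂ (q : G₂) := q.2
  obtain ⟨t, ht, hte⟩ := hup1 (-s)
  refine ⟨⟨((t : G₂) * ((q : G₂) * k) : G₂), ⟨((t : G₂) * ((q : G₂) * k)).2, ?_⟩⟩, ?_⟩
  · rw [Subgroup.coe_mul]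
    refine mul_mem (hPK t ht).2 (QdFree.ZJControl.mem_normalizer_of_conj ?_)
    rintro _ ⟨x, ⟨y, hy, rfl⟩, rfl⟩
    have hx0 : k * (y : G₂) * k⁻¹ ∈ P0 := hconj y y.2
    have hin : (⟨k * (y : G₂) * k⁻¹, hx0⟩ : P0) ∈
        (T₁.map (MulAut.conj k).toMonoidHom).subgroupOf P0 := ⟨y, mem_map_of_mem _ hy, rfl⟩
    have h3 : q * ⟨k * (y : G₂) * k⁻¹, hx0⟩ * q⁻¹ ∈ (P3 : Subgroup P0) := by
      rw [← hq, Sylow.coe_subgroup_smul]
      exact ⟨_, hP' hin, rfl⟩
    refine ⟨_, ⟨_, h3, rfl⟩, ?_⟩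
    simp [mul_assoc]
  · show A₂ ((t : G₂) * ((q : G₂) * k)) = dia ω
    rw [map_mul, map_mul, hte, ← hs, hk, ← mul_assoc, ← upR_add, neg_add_cancel, upR_zero, one_mul]

end Cfsg.Agent.ZJFail
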