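import Cfsg.Agent.QdFree.Eigen
import Cfsg.Agent.ZJFail.DeepPair

/-!
# The natural plane through a fixed vector

A deep pair of quadratic elements `a ∈ M`, `b ∉ M` and a vector `u` fixed by `a` whose stabiliser
lies in `M` give a module with a map to the natural plane sending `u` to a nonzero vector.
-/

set_option autoImplicit false
set_option maxHeartbeats 3000000

namespace Cfsg.Agent.ZJFail

open Subgroup Matrix
open Cfsg.Agent
open Cfsg.Agent.RootSub.Dickson

universe u

variable {p : ℕ} [hp : Fact p.Prime]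

theorem exists_functional (F : Type u) [Field F] [CharP F p] :
    ∃ l : F →+ ZMod p, l 1 = 1 ∧ ∀ (n : ℕ) (x : F), l (n * x) = n * l x := by
  let : Algebra (ZMod p) F := ZMod.algebra F p
  obtain ⟨g, hg⟩ := (Algebra.linearMap (ZMod p) F).exists_leftInverse_of_injective
    (LinearMap.ker_eq_bot.mpr (algebraMap (ZMod p) F).injective)
  refine ⟨g.toAddMonoidHom, ?_, fun n x => ?_⟩
  · have := LinearMap.congr_fun hg 1
    simpa using this
  · rw [← nsmul_eq_mul, map_nsmul, nsmul_eq_mul]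

variable {V : Type u} [AddCommGroup V] [Finite V] {H : Type*} [Group H] [Finite H]

omit [Finite V] in
theorem end_add_apply (f g : AddMonoid.End V) (x : V) : (f + g) x = f x + g x := rfl

omit [Finite V] in
theorem end_zero_apply (x : V) : (0 : AddMonoid.End V) x = 0 := rfl

omit [Finite V] in
theorem end_zsmul_apply (n : ℤ) (f : AddMonoid.End V) (x : V) : (n • f) x = n • f x := rfl

/-- Coordinates over the prime field for two transvections with a prime field invariant. -/
theorem exists_coords {F : Type u} [Field F] [CharP F p] (G : SpecialLinearGroup (Fin 2) F) (lam : F)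
    {n : ℕ} (hn : (n : F) = -((lam * G 0 1) ^ 2)) (hg : G 0 1 ≠ 0) (hlam : lam ≠ 0) :
    ∃ χ : (Fin 2 → F) →+ (Fin 2 → ZMod p), Function.Surjective χ ∧ χ ![0, 1] = ![1, 0] ∧
      (∀ v, χ ((lowR lam : SpecialLinearGroup (Fin 2) F).1 *ᵥ v) =
        ((upR (n : ZMod p) : SpecialLinearGroup (Fin 2) (ZMod p)) :
          Matrix (Fin 2) (Fin 2) (ZMod p)) *ᵥ χ v) ∧
      ∀ v, χ ((G * lowR lam * G⁻¹).1 *ᵥ v) =
        ((lowR 1 : SpecialLinearGroup (Fin 2) (ZMod p)) : Matrix (Fin 2) (Fin 2) (ZMod p)) *ᵥ χ v := by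
  set g := G 0 1 with hgdef
  set h := G 1 1 with hhdef
  obtain ⟨l, hl1, hln⟩ := exists_functional (p := p) F
  have hq : -(lam * g ^ 2) ≠ 0 := neg_ne_zero.mpr (mul_ne_zero hlam (pow_ne_zero _ hg))
  set q := (-(lam * g ^ 2))⁻¹
  have hqq : q * (-(lam * g ^ 2)) = 1 := inv_mul_cancel₀ hq
  let S : (Fin 2 → F) → F := fun v => v 0 * q
  let X : (Fin 2 → F) → F := fun v => v 1 + S v * (lam * g * h)
  have hS : ∀ v w, S (v + w) = S v + S w := fun v w => by simp only [S, Pi.add_apply]; ring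
  have hX : ∀ v w, X (v + w) = X v + X w := fun v w => by simp only [X, hS, Pi.add_apply]; ring
  let χ : (Fin 2 → F) →+ (Fin 2 → ZMod p) := AddMonoidHom.mk'
    (fun v => ![l (X v), l (S v)]) fun v w => by
      funext i; fin_cases i <;> simp [hX, hS]
  have hcm : ∀ v : Fin 2 → F, χ v = ![l (X v), l (S v)] := fun _ => rfl
  have e2 : ∀ a b c d x y : F, !![a, b; c, d] *ᵥ ![x, y] = ![a * x + b * y, c * x + d * y] :=
    fun a b c d x y => by
      funext i; fin_cases i <;> simp [Matrix.mulVec, dotProduct, Fin.sum_univ_two]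
  have e3 : ∀ a b c d x y : ZMod p,
      !![a, b; c, d] *ᵥ ![x, y] = ![a * x + b * y, c * x + d * y] := fun a b c d x y => by
      funext i; fin_cases i <;> simp [Matrix.mulVec, dotProduct, Fin.sum_univ_two]
  refine ⟨χ, fun z => ?_, ?_, fun v => ?_, fun v => ?_⟩
  · obtain ⟨s0, hs0⟩ : ∃ x, l x = z 0 := ⟨((z 0).val : F) * 1, by
      rw [hln, hl1, mul_one, ZMod.natCast_zmod_val]⟩
    obtain ⟨s1, hs1⟩ : ∃ x, l x = z 1 := ⟨((z 1).val : F) * 1, by
      rw [hln, hl1, mul_one, ZMod.natCast_zmod_val]⟩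
    refine ⟨![s1 * (-(lam * g ^ 2)), s0 - s1 * (lam * g * h)], ?_⟩
    have h1 : S ![s1 * (-(lam * g ^ 2)), s0 - s1 * (lam * g * h)] = s1 := by
      show s1 * (-(lam * g ^ 2)) * q = s1
      rw [mul_assoc, mul_comm (-(lam * g ^ 2)), hqq, mul_one]
    have h2 : X ![s1 * (-(lam * g ^ 2)), s0 - s1 * (lam * g * h)] = s0 := by
      simp only [X, h1]
      simp
    rw [hcm, h1, h2, hs0, hs1]
    funext i; fin_cases i <;> rfl
  · rw [hcm]
    funext i; fin_cases i <;> simp [X, S, hl1]
  · obtain ⟨x, y, rfl⟩ : ∃ x y, v = ![x, y] := ⟨v 0, v 1, by funext i; fin_cases i <;> rfl⟩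
    rw [coe_lowR, coe_upR, e2, hcm, hcm, e3]
    simp only [X, S, cons_val_zero, cons_val_one, cons_val_fin_one, one_mul, zero_mul, add_zero,
      zero_add]
    rw [← hln, ← map_add]
    have : lam * x + y + x * q * (lam * g * h) =
        y + x * q * (lam * g * h) + (n : F) * (x * q) := by
      rw [hn]; linear_combination (-(lam * x)) * hqq
    rw [this]
  · obtain ⟨x, y, rfl⟩ : ∃ x y, v = ![x, y] := ⟨v 0, v 1, by funext i; fin_cases i <;> rfl⟩
    have hd' := det2 G
    have hM : (G * lowR lam * G⁻¹).1 =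
        !![1 + lam * g * h, -(lam * g ^ 2); lam * h ^ 2, 1 - lam * g * h] := by
      ext i j
      fin_cases i <;> fin_cases j <;>
        simp [g, h, coe_lowR, Matrix.mul_apply, Fin.sum_univ_two, Matrix.adjugate_fin_two] <;>
        first
          | linear_combination hd'
          | linear_combination -hd'
          | ring
    rw [hM, coe_lowR, e2, hcm, hcm, e3]
    simp only [X, S, cons_val_zero, cons_val_one, cons_val_fin_one, one_mul, zero_mul, add_zero,
      zero_add]
    rw [← map_add]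
    have h1 : ((1 + lam * g * h) * x + -(lam * g ^ 2) * y) * q =
        (y + x * q * (lam * g * h)) + x * q := by
      linear_combination y * hqq
    have h2 : lam * h ^ 2 * x + (1 - lam * g * h) * y +
        ((1 + lam * g * h) * x + -(lam * g ^ 2) * y) * q * (lam * g * h) =
          y + x * q * (lam * g * h) := by
      rw [h1]; linear_combination (-(lam * h ^ 2 * x)) * hqq
    rw [h2, h1]

/-- The plane through `u`. -/
theorem exists_plane (h2 : p ≠ 2) (hV : ∀ v : V, p • v = 0) (ρ : H →* AddMonoid.End V)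
    {M R : Subgroup H} {a b : H}
    (hd : Deep p M {d : H | (ρ d - 1) * (ρ d - 1) = 0} R a b) {u : V} (hau : ρ a u = u)
    (hu : ∀ x : H, ρ x u = u → x ∈ M) :
    ∃ (a' : H) (W : AddSubgroup V) (θ : W →+ (Fin 2 → ZMod p)) (n : ZMod p) (hu' : u ∈ W)
      (ha : ∀ w ∈ W, ρ a w ∈ W) (ha' : ∀ w ∈ W, ρ a' w ∈ W),
      n ≠ 0 ∧ a' ∈ normalizer (R : Set H) ∧ Function.Surjective θ ∧ θ ⟨u, hu'⟩ = ![1, 0] ∧
      (∀ w : W, θ ⟨ρ a w, ha w w.2⟩ =
        ((upR n : SpecialLinearGroup (Fin 2) (ZMod p)) : Matrix (Fin 2) (Fin 2) (ZMod p)) *ᵥ θ w) ∧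
      ∀ w : W, θ ⟨ρ a' w, ha' w w.2⟩ =
        ((lowR 1 : SpecialLinearGroup (Fin 2) (ZMod p)) : Matrix (Fin 2) (Fin 2) (ZMod p)) *ᵥ θ w := by
  have h0 : ((p : ℕ) : AddMonoid.End V) = 0 := AddMonoidHom.ext fun z => hV z
  set A := ρ a - 1 with hAdef
  set B := ρ b - 1 with hBdef
  have hA2 : A * A = 0 := hd.a_mem
  have hB2 : B * B = 0 := hd.b_mem
  set t := A * B with ht
  set C := Subring.closure ({t} : Set (AddMonoid.End V)) with hC
  have htC : t ∈ C := Subring.subset_closure rfl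
  have : Finite (AddMonoid.End V) := Finite.of_injective _ DFunLike.coe_injective
  have := Subring.isMulCommutative_closure (R := AddMonoid.End V) (s := {t})
    (by rintro x rfl y rfl; rfl)
  let : CommRing C := { (inferInstance : Ring C) with
    mul_comm := fun x y => IsMulCommutative.is_comm.comm x y }
  have hAu : A u = 0 := by
    show ρ a u - u = 0
    rw [hau, sub_self]
  have haC : ∀ c ∈ C, ∃ n : ℤ, A * c = n • A := by
    intro c hc
    induction hc using Subring.closure_induction with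
    | mem x hx =>
      rw [Set.mem_singleton_iff] at hx
      exact ⟨0, by rw [hx, ht, ← mul_assoc, hA2, zero_mul, zero_smul]⟩
    | zero => exact ⟨0, by rw [mul_zero, zero_smul]⟩
    | one => exact ⟨1, by rw [mul_one, one_smul]⟩
    | add x y _ _ hx hy =>
      obtain ⟨m, hm⟩ := hx
      obtain ⟨n, hn⟩ := hy
      exact ⟨m + n, by rw [mul_add, hm, hn, add_smul]⟩
    | neg x _ hx =>
      obtain ⟨m, hm⟩ := hx
      exact ⟨-m, by rw [mul_neg, hm, neg_smul]⟩
    | mul x y _ _ hx hy =>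
      obtain ⟨m, hm⟩ := hx
      obtain ⟨n, hn⟩ := hy
      exact ⟨m * n, by rw [← mul_assoc, hm, smul_mul_assoc, hn, smul_smul]⟩
  have hAc : ∀ c : C, A ((c : AddMonoid.End V) u) = 0 := fun c => by
    obtain ⟨n, hn⟩ := haC c c.2
    show (A * (c : AddMonoid.End V)) u = 0
    rw [hn, end_zsmul_apply, hAu, zsmul_zero]
  have hBB : ∀ z, B (B z) = 0 := fun z => DFunLike.congr_fun hB2 z
  set T : C := ⟨t, htC⟩
  -- the cyclic module
  let Γ : C × C →+ V := AddMonoidHom.mk'
    (fun c => (c.1 : AddMonoid.End V) u + B ((c.2 : AddMonoid.End V) u)) fun c d => by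
      show ((c.1 : AddMonoid.End V) + (d.1 : AddMonoid.End V)) u +
        B (((c.2 : AddMonoid.End V) + (d.2 : AddMonoid.End V)) u) = _
      rw [end_add_apply, end_add_apply, map_add]
      abel
  have hΓ : ∀ c d : C, Γ (c, d) = (c : AddMonoid.End V) u + B ((d : AddMonoid.End V) u) :=
    fun _ _ => rfl
  have hAΓ : ∀ c d : C, A (Γ (c, d)) = Γ (T * d, 0) := fun c d => by
    rw [hΓ, hΓ, map_add, hAc, zero_add, ZeroMemClass.coe_zero]
    show (A * B) ((d : AddMonoid.End V) u) = _
    rw [← ht, end_zero_apply, map_zero, add_zero]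
    rfl
  have hBΓ : ∀ c d : C, B (Γ (c, d)) = Γ (0, c) := fun c d => by
    rw [hΓ, hΓ, map_add, hBB, add_zero, ZeroMemClass.coe_zero, end_zero_apply, zero_add]
  have hra : ∀ c d : C, ρ a (Γ (c, d)) = Γ (c + T * d, d) := fun c d => by
    rw [show ρ a = 1 + A by rw [hAdef, add_sub_cancel]]
    show Γ (c, d) + A (Γ (c, d)) = _
    rw [hAΓ, ← map_add, Prod.mk_add_mk, add_zero]
  have hrb : ∀ c d : C, ρ b (Γ (c, d)) = Γ (c, d + c) := fun c d => by
    rw [show ρ b = 1 + B by rw [hBdef, add_sub_cancel]]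
    show Γ (c, d) + B (Γ (c, d)) = _
    rw [hBΓ, ← map_add, Prod.mk_add_mk, add_zero]
  set W := Γ.range with hWdef
  have huW : u ∈ W := ⟨(1, 0), by rw [hΓ]; simp⟩
  set K := Subgroup.closure ({a, b} : Set H) with hK
  have hKR : K ≤ normalizer (R : Set H) := by
    rw [hK, Subgroup.closure_le]
    rintro _ (rfl | hz)
    · exact hd.a_norm
    · rw [Set.mem_singleton_iff] at hz; exact hz ▸ hd.b_norm
  -- `t` is not nilpotent on `u`
  have hnil : ∀ N : ℕ, (t ^ N) u ≠ 0 := by
    intro N hN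
    let L : ℕ → AddSubgroup V := fun i =>
      (((Ideal.span {T ^ ((i + 1) / 2)}).toAddSubgroup).prod
        ((Ideal.span {T ^ (i / 2)}).toAddSubgroup)).map Γ
    have hL : ∀ i w, w ∈ L i ↔ ∃ c d : C,
        T ^ ((i + 1) / 2) ∣ c ∧ T ^ (i / 2) ∣ d ∧ Γ (c, d) = w := by
      intro i w
      simp only [L, AddSubgroup.mem_map, AddSubgroup.mem_prod, Submodule.mem_toAddSubgroup,
        Ideal.mem_span_singleton, Prod.exists]
      exact ⟨fun ⟨c, d, h, e⟩ => ⟨c, d, h.1, h.2, e⟩, fun ⟨c, d, h1, h2, e⟩ => ⟨c, d, ⟨h1, h2⟩, e⟩⟩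
    have hLmono : ∀ i, L (i + 1) ≤ L i := fun i w hw => by
      obtain ⟨c, d, hc, hd', rfl⟩ := (hL _ _).mp hw
      exact (hL _ _).mpr ⟨c, d, (pow_dvd_pow T (by omega)).trans hc,
        (pow_dvd_pow T (by omega)).trans hd', rfl⟩
    let G₀ : Submonoid H :=
      { carrier := {k | ∀ i, ∀ w ∈ L i, ρ k w - w ∈ L (i + 1)}
        one_mem' := fun i w _ => by
          rw [map_one]
          show w - w ∈ L (i + 1)
          rw [sub_self]
          exact zero_mem _
        mul_mem' := fun {k l} hk hl i w hw => by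
          have h1 := hl i w hw
          have h2 := hLmono _ (hk _ _ h1)
          have h3 := hk i w hw
          rw [map_mul]
          show ρ k (ρ l w) - w ∈ L (i + 1)
          have : ρ k (ρ l w) - w =
              (ρ k (ρ l w - w) - (ρ l w - w)) + (ρ l w - w) + (ρ k w - w) := by
            rw [map_sub]; abel
          rw [this]
          exact add_mem (add_mem h2 h1) h3 }
    have hG₀ : ∀ k ∈ K, k ∈ G₀ := by
      intro k hk
      induction hk using Subgroup.closure_induction with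
      | mem x hx =>
        intro i w hw
        obtain ⟨c, d, hc, hd', rfl⟩ := (hL _ _).mp hw
        rcases hx with rfl | hx
        · show A (Γ (c, d)) ∈ L (i + 1)
          rw [hAΓ]
          refine (hL _ _).mpr ⟨T * d, 0, ?_, dvd_zero _, rfl⟩
          rw [show (i + 1 + 1) / 2 = i / 2 + 1 by omega, pow_succ']
          exact mul_dvd_mul_left T hd'
        · rw [Set.mem_singleton_iff] at hx
          subst hx
          show B (Γ (c, d)) ∈ L (i + 1)
          rw [hBΓ]
          exact (hL _ _).mpr ⟨0, c, dvd_zero _, hc, rfl⟩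
      | one => exact one_mem G₀
      | mul x y _ _ hx hy => exact mul_mem hx hy
      | inv x _ hx =>
        rw [inv_eq_of_mul_eq_one_right (show x * x ^ (orderOf x - 1) = 1 by
          rw [← pow_succ', Nat.sub_add_cancel (orderOf_pos x), pow_orderOf_eq_one])]
        exact pow_mem hx _
    have hL0 : ∀ w, w ∈ L (2 * N) → w = 0 := by
      intro w hw
      obtain ⟨c, d, ⟨c', rfl⟩, ⟨d', rfl⟩, rfl⟩ := (hL _ _).mp hw
      have key : ∀ e : C, ((T ^ N * e : C) : AddMonoid.End V) u = 0 := fun e => by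
        rw [mul_comm]
        show (e : AddMonoid.End V) ((t ^ N) u) = 0
        rw [hN, map_zero]
      rw [show (2 * N + 1) / 2 = N by omega, show 2 * N / 2 = N by omega, hΓ, key, key, map_zero,
        add_zero]
    obtain ⟨m, hm⟩ : ∃ m : ℕ, ∀ k ∈ K, ∀ w ∈ W, ρ (k ^ p ^ m) w = w := by
      refine ⟨2 * N, fun k hk w hw => ?_⟩
      have hiter : ∀ j, ((ρ k - 1) ^ j) w ∈ L j := by
        intro j
        induction j with
        | zero =>
          obtain ⟨⟨c, d⟩, rfl⟩ := hw
          exact (hL _ _).mpr ⟨c, d, by simp, by simp, rfl⟩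
        | succ j ih =>
          rw [pow_succ']
          exact hG₀ k hk j _ ih
      have hzero : ∀ j, 2 * N ≤ j → ((ρ k - 1) ^ j) w = 0 := fun j hj => by
        have hle : L j ≤ L (2 * N) := by
          induction hj with
          | refl => exact le_rfl
          | step _ ih => exact (hLmono _).trans ih
        exact hL0 _ (hle (hiter j))
      obtain ⟨r, hr⟩ := (Commute.one_right (ρ k - 1)).exists_add_pow_prime_pow_eq hp.out (2 * N)
      rw [sub_add_cancel, h0, one_pow, zero_mul, zero_mul, zero_mul, add_zero] at hr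
      rw [map_pow, hr]
      show ((ρ k - 1) ^ p ^ (2 * N)) w + w = w
      rw [hzero _ (Nat.lt_pow_self hp.out.one_lt).le, zero_add]
    let N₀ : Subgroup K :=
      { carrier := {k | ∀ w ∈ W, ρ (k : H) w = w}
        one_mem' := fun w _ => by rw [OneMemClass.coe_one, map_one]; rfl
        mul_mem' := fun {k l} hk hl w hw => by
          rw [Subgroup.coe_mul, map_mul]
          show ρ (k : H) (ρ (l : H) w) = w
          rw [hl w hw, hk w hw]
        inv_mem' := fun {k} hk w hw => by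
          conv_lhs => rw [← hk w hw]
          show (ρ ((k⁻¹ : K) : H) * ρ (k : H)) w = w
          rw [← map_mul, InvMemClass.coe_inv, inv_mul_cancel, map_one]
          rfl }
    have hKW : ∀ k ∈ K, ∀ w ∈ W, ρ k w ∈ W := by
      intro k hk w hw
      obtain ⟨⟨c, d⟩, rfl⟩ := hw
      have h1 := hG₀ k hk 0 (Γ (c, d)) ((hL _ _).mpr ⟨c, d, by simp, by simp, rfl⟩)
      obtain ⟨c', d', -, -, he⟩ := (hL _ _).mp h1
      exact ⟨(c' + c, d' + d), by rw [← Prod.mk_add_mk, map_add, he, sub_add_cancel]⟩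
    have hN₀n : N₀.Normal := ⟨fun k hk l w hw => by
      rw [Subgroup.coe_mul, Subgroup.coe_mul, map_mul, map_mul, InvMemClass.coe_inv]
      show ρ (l : H) (ρ (k : H) (ρ (l : H)⁻¹ w)) = w
      rw [hk _ (hKW _ (inv_mem l.2) w hw)]
      show (ρ (l : H) * ρ (l : H)⁻¹) w = w
      rw [← map_mul, mul_inv_cancel, map_one]
      rfl⟩
    set π := QuotientGroup.mk' N₀
    have hq : IsPGroup p (K ⧸ N₀) := by
      intro z
      obtain ⟨k, rfl⟩ := QuotientGroup.mk'_surjective N₀ z
      refine ⟨m, ?_⟩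
      rw [← map_pow]
      exact (QuotientGroup.eq_one_iff _).mpr fun w hw => by rw [SubgroupClass.coe_pow]; exact hm k k.2 w hw
    have hle : N₀ ≤ M.subgroupOf K := fun k hk => hu _ (hk u huW)
    have hlt : (M.subgroupOf K).map π < ⊤ := by
      refine lt_top_iff_ne_top.mpr fun h => hd.b_out ?_
      have h' : (⊤ : Subgroup K) ≤ M.subgroupOf K := by
        have := congrArg (Subgroup.comap π) h
        rw [comap_map_eq, QuotientGroup.ker_mk', Subgroup.comap_top] at this
        exact this.ge.trans (sup_le le_rfl hle)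
      exact h' (mem_top (⟨b, Subgroup.subset_closure (by simp)⟩ : K))
    have := hq.isNilpotent
    obtain ⟨z, hz, hzn⟩ := SetLike.exists_of_lt (Group.normalizerCondition_of_isNilpotent _ hlt)
    obtain ⟨x, rfl⟩ := QuotientGroup.mk'_surjective N₀ z
    have hxa : (x : H) * a * (x : H)⁻¹ ∈ M := by
      have h1 := (Subgroup.mem_normalizer_iff.mp hz (π ⟨a, Subgroup.subset_closure (by simp)⟩)).mp
        (mem_map_of_mem π (show (⟨a, _⟩ : K) ∈ M.subgroupOf K from hd.a_in))
      rw [← map_inv, ← map_mul, ← map_mul] at h1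
      obtain ⟨y, hy, hye⟩ := h1
      have := mul_mem hy (hle (QuotientGroup.eq.mp hye))
      rwa [mul_inv_cancel_left] at this
    exact hzn (mem_map_of_mem π (show x ∈ M.subgroupOf K from hd.conj _ (hKR x.2) hxa))
  -- the residue field
  let J : Ideal C :=
    { carrier := {c | (c : AddMonoid.End V) u = 0}
      zero_mem' := rfl
      add_mem' := fun {c d} hc hd' => by
        show ((c : AddMonoid.End V) + (d : AddMonoid.End V)) u = 0
        rw [end_add_apply, hc, hd', add_zero]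
      smul_mem' := fun c d hd' => by
        show (c : AddMonoid.End V) ((d : AddMonoid.End V) u) = 0
        rw [hd', map_zero] }
  obtain ⟨P, hP, hJP, hTP⟩ : ∃ P : Ideal C, P.IsPrime ∧ J ≤ P ∧ T ∉ P := by
    by_contra hc
    push Not at hc
    have : T ∈ J.radical := by
      rw [Ideal.radical_eq_sInf, Submodule.mem_sInf]
      exact fun P hP => hc P hP.2 hP.1
    obtain ⟨N, hN⟩ := this
    exact hnil N hN
  obtain ⟨F, iF, iFf, iFc, π, hπs, hπker⟩ : ∃ (F : Type u) (_ : Field F) (_ : Finite F) (_ : CharP F p)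
      (π : C →+* F), Function.Surjective π ∧ ∀ c, π c = 0 ↔ c ∈ P := by
    have hfin : Finite (C ⧸ P) := Finite.of_surjective _ Ideal.Quotient.mk_surjective
    have hchar : CharP (C ⧸ P) p := by
      refine (CharP.charP_iff_prime_eq_zero hp.out).mpr ?_
      rw [← map_natCast (Ideal.Quotient.mk P), show (p : C) = 0 from Subtype.ext (by simpa using h0),
        map_zero]
    exact ⟨C ⧸ P, (Finite.isField_of_domain (C ⧸ P)).toField, hfin, hchar, Ideal.Quotient.mk P,
      Ideal.Quotient.mk_surjective, fun c => Ideal.Quotient.eq_zero_iff_mem⟩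
  set lam := π T with hlam
  have hlam0 : lam ≠ 0 := fun h => hTP ((hπker T).mp h)
  have hgen : Subring.closure ({lam} : Set F) = ⊤ := by
    rw [eq_top_iff]
    intro z _
    obtain ⟨⟨c, hc⟩, rfl⟩ := hπs z
    induction hc using Subring.closure_induction with
    | mem x hx =>
      rw [Set.mem_singleton_iff] at hx
      subst hx
      exact Subring.subset_closure rfl
    | zero => exact (map_zero π).symm ▸ zero_mem _
    | one => exact (map_one π).symm ▸ one_mem _
    | add x y hx hy ihx ihy =>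
      exact (map_add π ⟨x, hx⟩ ⟨y, hy⟩).symm ▸ add_mem (ihx trivial) (ihy trivial)
    | neg x hx ihx => exact (map_neg π ⟨x, hx⟩).symm ▸ neg_mem (ihx trivial)
    | mul x y hx hy ihx ihy =>
      exact (map_mul π ⟨x, hx⟩ ⟨y, hy⟩).symm ▸ mul_mem (ihx trivial) (ihy trivial)
  have hker : ∀ c d : C, Γ (c, d) = 0 → c ∈ P ∧ d ∈ P := by
    intro c d h
    have h1 := congrArg A h
    rw [hAΓ, map_zero, hΓ, ZeroMemClass.coe_zero, end_zero_apply, map_zero, add_zero] at h1
    have h2 := congrArg B h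
    rw [hBΓ, map_zero] at h2
    have h3 := congrArg A h2
    rw [hAΓ, map_zero, hΓ, ZeroMemClass.coe_zero, end_zero_apply, map_zero, add_zero] at h3
    exact ⟨(hP.mem_or_mem (hJP h3)).resolve_left hTP, (hP.mem_or_mem (hJP h1)).resolve_left hTP⟩
  choose cd hcd using fun w : W => w.2
  have hθ₀ : ∀ (c d : C) (h : Γ (c, d) ∈ W),
      (![π (cd ⟨_, h⟩).2, π (cd ⟨_, h⟩).1] : Fin 2 → F) = ![π d, π c] := by
    intro c d h
    obtain ⟨h1, h2⟩ := hker ((cd ⟨_, h⟩).1 - c) ((cd ⟨_, h⟩).2 - d) (by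
      rw [← Prod.mk_sub_mk, map_sub, Prod.mk.eta, hcd, sub_self])
    rw [sub_eq_zero.mp ((map_sub π _ _).symm.trans ((hπker _).mpr h1)),
      sub_eq_zero.mp ((map_sub π _ _).symm.trans ((hπker _).mpr h2))]
  let θ₀ : W →+ (Fin 2 → F) := AddMonoidHom.mk' (fun w => ![π (cd w).2, π (cd w).1])
    fun w w' => by
      have h : Γ ((cd w).1 + (cd w').1, (cd w).2 + (cd w').2) = (w + w' : W) := by
        rw [← Prod.mk_add_mk, map_add, Prod.mk.eta, Prod.mk.eta, hcd, hcd]; rfl
      have := hθ₀ _ _ (h ▸ (w + w').2)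
      simp only [h] at this
      show ![π (cd (w + w')).2, π (cd (w + w')).1] = _
      rw [this, map_add, map_add]
      funext i; fin_cases i <;> simp
  have hθ : ∀ (c d : C) (h : Γ (c, d) ∈ W), θ₀ ⟨_, h⟩ = ![π d, π c] := hθ₀
  have hθ' : ∀ (c d : C) (w : W), (w : V) = Γ (c, d) → θ₀ w = ![π d, π c] := by
    intro c d w hw
    obtain ⟨w, hwm⟩ := w
    obtain rfl : w = Γ (c, d) := hw
    exact hθ c d hwm
  -- the matrices
  let Good : H → SpecialLinearGroup (Fin 2) F → Prop := fun k g =>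
    ∃ hk : ∀ w ∈ W, ρ k w ∈ W, ∀ w : W,
      θ₀ ⟨ρ k w, hk w w.2⟩ = (g : Matrix (Fin 2) (Fin 2) F) *ᵥ θ₀ w
  have good_mul : ∀ {k l g g'}, Good k g → Good l g' → Good (k * l) (g * g') := by
    rintro k l g g' ⟨hk, hkg⟩ ⟨hl, hlg⟩
    refine ⟨fun w hw => by rw [map_mul]; exact hk _ (hl w hw), fun w => ?_⟩
    refine Eq.trans ?_ ((congrArg _ (hlg w)).trans (mulVec_mulVec _ _ _))
    refine Eq.trans ?_ (hkg _)
    congr 1
    exact Subtype.ext (show ρ (k * l) (w : V) = (ρ k * ρ l) (w : V) from DFunLike.congr_fun (map_mul ρ k l) _)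
  have good_one : Good 1 1 := by
    refine ⟨fun w hw => by rw [map_one]; exact hw, fun w => ?_⟩
    refine Eq.trans ?_ (one_mulVec _).symm
    congr 1
    exact Subtype.ext (show ρ 1 (w : V) = (1 : AddMonoid.End V) (w : V) from DFunLike.congr_fun (map_one ρ) _)
  have good_inv : ∀ {k g}, Good k g → Good k⁻¹ g⁻¹ := by
    intro k g hkg
    have hpow : ∀ j : ℕ, Good (k ^ j) (g ^ j) := fun j => by
      induction j with
      | zero => simpa using good_one
      | succ j ih => rw [pow_succ, pow_succ]; exact good_mul ih hkg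
    have := hpow (orderOf k * orderOf g - 1)
    have hg : 0 < orderOf g := orderOf_pos g
    have hN : 0 < orderOf k * orderOf g := Nat.mul_pos (orderOf_pos k) hg
    have ek : k ^ (orderOf k * orderOf g - 1) = k⁻¹ := eq_inv_of_mul_eq_one_left (by
      rw [← pow_succ, Nat.sub_add_cancel hN, pow_mul, pow_orderOf_eq_one, one_pow])
    have eg : g ^ (orderOf k * orderOf g - 1) = g⁻¹ := eq_inv_of_mul_eq_one_left (by
      rw [← pow_succ, Nat.sub_add_cancel hN, mul_comm, pow_mul, pow_orderOf_eq_one, one_pow])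
    rwa [ek, eg] at this
  have good_a : Good a (lowR lam) := by
    refine ⟨fun w hw => ?_, fun w => ?_⟩
    · obtain ⟨⟨c, d⟩, rfl⟩ := hw
      exact ⟨_, (hra c d).symm⟩
    · obtain ⟨_, ⟨⟨c, d⟩, rfl⟩⟩ := w
      rw [hθ' _ _ _ (hra c d), hθ' c d _ rfl]
      rw [map_add, map_mul, ← hlam, coe_lowR]
      generalize π d = x
      generalize π c = y
      funext i; fin_cases i <;> simp [mulVec, dotProduct, Fin.sum_univ_two] <;> ring
  have good_b : Good b (upR 1) := by
    refine ⟨fun w hw => ?_, fun w => ?_⟩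
    · obtain ⟨⟨c, d⟩, rfl⟩ := hw
      exact ⟨_, (hrb c d).symm⟩
    · obtain ⟨_, ⟨⟨c, d⟩, rfl⟩⟩ := w
      rw [hθ' _ _ _ (hrb c d), hθ' c d _ rfl]
      rw [map_add, coe_upR]
      generalize π d = x
      generalize π c = y
      funext i; fin_cases i <;> simp [mulVec, dotProduct, Fin.sum_univ_two]
  obtain ⟨G, hG, hw⟩ := QdFree.exists_weight (F := F) h2 hlam0 hgen
  obtain ⟨k, hk, hkG⟩ : ∃ k ∈ K, Good k G := by
    clear hw
    induction hG using Subgroup.closure_induction with
    | mem x hx =>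
      rcases hx with rfl | hx
      · exact ⟨a, Subgroup.subset_closure (by simp), good_a⟩
      · rw [Set.mem_singleton_iff] at hx
        exact ⟨b, Subgroup.subset_closure (by simp), hx ▸ good_b⟩
    | one => exact ⟨1, one_mem _, good_one⟩
    | mul x y _ _ hx hy =>
      obtain ⟨k, hk, hkx⟩ := hx
      obtain ⟨l, hl, hly⟩ := hy
      exact ⟨k * l, mul_mem hk hl, good_mul hkx hly⟩
    | inv x _ hx =>
      obtain ⟨k, hk, hkx⟩ := hx
      exact ⟨k⁻¹, inv_mem hk, good_inv hkx⟩
  set g := G 0 1 with hg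
  obtain ⟨n, hn, hnF⟩ : ∃ n : ℕ, (n : ZMod p) ≠ 0 ∧ (n : F) = -((lam * g) ^ 2) := by
    have hp1 : 1 ≤ p := hp.out.one_lt.le
    rcases hw with e | e
    · refine ⟨p - 1, ?_, ?_⟩
      · rw [Nat.cast_sub hp1, ZMod.natCast_self, Nat.cast_one, zero_sub, neg_ne_zero]
        exact one_ne_zero
      · rw [e, Nat.cast_sub hp1, CharP.cast_eq_zero, Nat.cast_one, zero_sub]
    · exact ⟨1, by rw [Nat.cast_one]; exact one_ne_zero, by rw [e, Nat.cast_one, neg_neg]⟩
  have hg0 : g ≠ 0 := by
    intro h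
    have : (n : F) = 0 := by rw [hnF, h]; ring
    exact hn ((ZMod.natCast_eq_zero_iff n p).mpr ((CharP.cast_eq_zero_iff F p n).mp this))
  obtain ⟨ha', ha'G⟩ := good_mul (good_mul hkG good_a) (good_inv hkG)
  obtain ⟨hak, haG⟩ := good_a
  obtain ⟨χ, hχs, hχu, hχa, hχb⟩ := exists_coords (p := p) G lam hnF hg0 hlam0
  refine ⟨k * a * k⁻¹, W, χ.comp θ₀, (n : ZMod p), huW, hak, ha', hn,
    mul_mem (mul_mem (hKR hk) hd.a_norm) (inv_mem (hKR hk)), ?_, ?_, fun w => ?_, fun w => ?_⟩
  · intro z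
    obtain ⟨v, rfl⟩ := hχs z
    obtain ⟨d, hd'⟩ := hπs (v 0)
    obtain ⟨c, hc'⟩ := hπs (v 1)
    have hm : Γ (c, d) ∈ W := ⟨_, rfl⟩
    refine ⟨⟨Γ (c, d), hm⟩, ?_⟩
    rw [AddMonoidHom.comp_apply, hθ' c d _ rfl, hd', hc']
    congr 1
    funext i; fin_cases i <;> rfl
  · rw [AddMonoidHom.comp_apply, hθ' 1 0 _ (by rw [hΓ]; simp), map_zero, map_one, hχu]
  · exact (congrArg χ (haG w)).trans (hχa _)
  · exact (congrArg χ (ha'G w)).trans (hχb _)

end Cfsg.Agent.ZJFail
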